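import Groth.Prelude.Def_LangSh
import Groth.Agent.Flat2E.FinEtaleSpread
import Mathlib.AlgebraicGeometry.Morphisms.FlatRank
import Mathlib.AlgebraicGeometry.Morphisms.Etale

/-!
# Artin–Schreier covers

`R` a commutative ring, `q ≥ 2` with `(q : R) = 0`, `g : R`: the cover
`cov q g : Spec R[z]/(z^q - z - g) ⟶ Spec R` is finite, etale, surjective, of rank `q`; for `f : R → S`
with `f g = g'` there is a commutative square `covMap`; for a field `K`, `a ≠ 0`, `c : K` the scheme
`Spec K[X][z]/(z^q - z - (a X + c))` is an affine line over `K` (`lineIso`).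
-/

set_option autoImplicit false
universe u

open CategoryTheory CategoryTheory.Limits AlgebraicGeometry Polynomial

noncomputable section

namespace Groth.Agent.Sga4h.H582.ASCov

section Ring

variable {R : Type u} [CommRing R] (q : ℕ) (g : R)

theorem monic (hq : 2 ≤ q) : (X ^ q - X - C g : R[X]).Monic := by
  rcases subsingleton_or_nontrivial R with hR | hR
  · exact Subsingleton.elim _ _
  rw [sub_sub]
  refine monic_X_pow_sub (n := q) ?_
  refine lt_of_le_of_lt (degree_add_le _ _) ?_
  rw [degree_X, max_lt_iff]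
  refine ⟨by exact_mod_cast hq, lt_of_le_of_lt degree_C_le ?_⟩
  exact_mod_cast (by omega : 0 < q)

theorem natDegree [Nontrivial R] (hq : 2 ≤ q) : (X ^ q - X - C g : R[X]).natDegree = q := by
  rw [sub_sub]
  refine natDegree_eq_of_degree_eq_some ?_
  rw [degree_sub_eq_left_of_degree_lt]
  · rw [degree_X_pow]
  · rw [degree_X_pow]
    refine lt_of_le_of_lt (degree_add_le _ _) ?_
    rw [degree_X, max_lt_iff]
    refine ⟨by exact_mod_cast hq, lt_of_le_of_lt degree_C_le ?_⟩
    exact_mod_cast (by omega : 0 < q)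

theorem isCoprime (hqR : (q : R) = 0) :
    IsCoprime (X ^ q - X - C g : R[X]) (derivative (X ^ q - X - C g : R[X])) := by
  have h0 : (C (q : R)) = 0 := by rw [hqR, C_0]
  refine ⟨0, -1, ?_⟩
  rw [derivative_sub, derivative_sub, derivative_X_pow, h0]
  simp

theorem etale (hq : 2 ≤ q) (hqR : (q : R) = 0) : Algebra.Etale R (LangSh.ASAlg R q g) :=
  Groth.Agent.Flat2E.FinEtaleSpread.etale_adjoinRoot _ (monic q g hq) (isCoprime q g hqR)

theorem root_eq : (AdjoinRoot.root (X ^ q - X - C g : R[X])) ^ q -
    AdjoinRoot.root (X ^ q - X - C g : R[X]) =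
      algebraMap R (LangSh.ASAlg R q g) g := by
  have h : eval₂ (AdjoinRoot.of (X ^ q - X - C g : R[X])) (AdjoinRoot.root (X ^ q - X - C g : R[X]))
      (X ^ q - X - C g : R[X]) = 0 := AdjoinRoot.eval₂_root _
  rw [eval₂_sub, eval₂_sub, eval₂_X_pow, eval₂_X, eval₂_C] at h
  exact sub_eq_zero.1 h

theorem lift_cond {S : Type u} [CommRing S] (f : R →+* S) (z : S) (hz : z ^ q - z = f g) :
    eval₂ f z (X ^ q - X - C g : R[X]) = 0 := by
  rw [eval₂_sub, eval₂_sub, eval₂_X_pow, eval₂_X, eval₂_C, hz, sub_self]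

/-- Ring maps out of the Artin–Schreier algebra. -/
def lift {S : Type u} [CommRing S] (f : R →+* S) (z : S) (hz : z ^ q - z = f g) :
    LangSh.ASAlg R q g →+* S :=
  AdjoinRoot.lift f z (lift_cond q g f z hz)

theorem lift_comp {S : Type u} [CommRing S] (f : R →+* S) (z : S) (hz : z ^ q - z = f g) :
    (lift q g f z hz).comp (algebraMap R (LangSh.ASAlg R q g)) = f := by
  ext a
  exact AdjoinRoot.lift_of (lift_cond q g f z hz)

theorem lift_root {S : Type u} [CommRing S] (f : R →+* S) (z : S) (hz : z ^ q - z = f g) :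
    lift q g f z hz (AdjoinRoot.root _) = z :=
  AdjoinRoot.lift_root (lift_cond q g f z hz)

theorem hom_ext {S : Type u} [CommRing S] {f f' : LangSh.ASAlg R q g →+* S}
    (h1 : f.comp (algebraMap R (LangSh.ASAlg R q g)) = f'.comp (algebraMap R _))
    (h2 : f (AdjoinRoot.root _) = f' (AdjoinRoot.root _)) : f = f' := by
  refine AdjoinRoot.ringHom_ext ?_ h2
  ext a
  exact DFunLike.congr_fun h1 a

/-- Base change of the Artin–Schreier algebra. -/
def mapHom {S : Type u} [CommRing S] (f : R →+* S) (g' : S) (h : f g = g') :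
    LangSh.ASAlg R q g →+* LangSh.ASAlg S q g' :=
  lift q g ((algebraMap S (LangSh.ASAlg S q g')).comp f) (AdjoinRoot.root _)
    (by rw [root_eq, RingHom.comp_apply, h])

theorem mapHom_comp {S : Type u} [CommRing S] (f : R →+* S) (g' : S) (h : f g = g') :
    (mapHom q g f g' h).comp (algebraMap R (LangSh.ASAlg R q g)) =
      (algebraMap S (LangSh.ASAlg S q g')).comp f := lift_comp _ _ _ _ _

end Ring

section Scheme

variable {R : Type u} [CommRing R] (q : ℕ) (g : R)

/-- The Artin–Schreier cover. -/
abbrev cov : Spec (CommRingCat.of (LangSh.ASAlg R q g)) ⟶ Spec (CommRingCat.of R) :=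
  LangSh.cover R (LangSh.ASAlg R q g)

theorem isFinite_cov (hq : 2 ≤ q) : IsFinite (cov q g) := by
  have := (monic q g hq).finite_adjoinRoot
  rw [cov, LangSh.cover, IsFinite.SpecMap_iff]
  exact RingHom.finite_algebraMap.2 inferInstance

theorem etale_cov (hq : 2 ≤ q) (hqR : (q : R) = 0) : Etale (cov q g) := by
  have := etale q g hq hqR
  rw [cov, LangSh.cover, HasRingHomProperty.Spec_iff (P := @Etale)]
  exact RingHom.etale_algebraMap.2 inferInstance

theorem finrank_cov (hq : 2 ≤ q) (s : Spec (CommRingCat.of R)) : (cov q g).finrank s = q := by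
  rcases subsingleton_or_nontrivial R with hR | hR
  · have h : IsEmpty (PrimeSpectrum R) := inferInstance
    exact h.elim s
  have h1 := (monic q g hq).free_adjoinRoot
  have h2 := (monic q g hq).finite_adjoinRoot
  have h4 := isFinite_cov q g hq
  have h5 : Flat (cov q g) := by
    rw [cov, LangSh.cover, Flat.SpecMap_iff]
    exact RingHom.flat_algebraMap_iff.2 inferInstance
  refine (Scheme.Hom.finrank_SpecMap_algebraMap R (LangSh.ASAlg R q g) s).trans ?_
  rw [Module.rankAtStalk_eq_finrank_of_free]
  have h3 := (AdjoinRoot.powerBasis' (monic q g hq)).finrank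
  rw [AdjoinRoot.powerBasis'_dim, natDegree q g hq] at h3
  exact h3

theorem surjective_cov (hq : 2 ≤ q) : Surjective (cov q g) := by
  have := isFinite_cov q g hq
  have h1 := (monic q g hq).free_adjoinRoot
  have h5 : Flat (cov q g) := by
    rw [cov, LangSh.cover, Flat.SpecMap_iff]
    exact RingHom.flat_algebraMap_iff.2 inferInstance
  rw [← Scheme.Hom.one_le_finrank_iff_surjective]
  intro s
  rw [finrank_cov q g hq]
  exact (Nat.one_le_iff_ne_zero.2 (by omega) : 1 ≤ q)

/-- Base change of Artin–Schreier covers. -/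
def covMap {S : Type u} [CommRing S] (f : R →+* S) (g' : S) (h : f g = g') :
    Spec (CommRingCat.of (LangSh.ASAlg S q g')) ⟶ Spec (CommRingCat.of (LangSh.ASAlg R q g)) :=
  Spec.map (CommRingCat.ofHom (mapHom q g f g' h))

theorem covMap_cov {S : Type u} [CommRing S] (f : R →+* S) (g' : S) (h : f g = g') :
    covMap q g f g' h ≫ cov q g = cov q g' ≫ Spec.map (CommRingCat.ofHom f) := by
  rw [covMap, cov, cov, LangSh.cover, LangSh.cover, ← Spec.map_comp, ← Spec.map_comp,
    ← CommRingCat.ofHom_comp, ← CommRingCat.ofHom_comp, mapHom_comp]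

end Scheme

section Line

variable {K : Type u} [Field K] (q : ℕ) (a : K) (c : K)

/-- `a X + c` -/
abbrev lin : K[X] := C a * X + C c

/-- `K[X] → K[X][z]/(z^q - z - (a X + c))`, `X ↦ z`. -/
def lineInv : K[X] →+* LangSh.ASAlg K[X] q (lin a c) :=
  eval₂RingHom ((algebraMap K[X] (LangSh.ASAlg K[X] q (lin a c))).comp C) (AdjoinRoot.root _)

theorem lineInv_C (x : K) : lineInv q a c (C x) = algebraMap K[X] (LangSh.ASAlg K[X] q (lin a c)) (C x) := by
  simp [lineInv]

theorem lineInv_X : lineInv q a c X = AdjoinRoot.root _ := by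
  simp [lineInv]

variable {a}

/-- `X ↦ a⁻¹ (X^q - X - c)` -/
def lineBase : K[X] →+* K[X] :=
  eval₂RingHom C (C a⁻¹ * (X ^ q - X - C c))

theorem lineBase_C (x : K) : lineBase (a := a) q c (C x) = C x := by
  simp [lineBase]

theorem lineBase_X : lineBase (a := a) q c X = C a⁻¹ * (X ^ q - X - C c) := by
  simp [lineBase]

theorem lineBase_lin (ha : a ≠ 0) : lineBase (a := a) q c (lin a c) = X ^ q - X := by
  rw [lin, map_add, map_mul, lineBase_C, lineBase_X, lineBase_C, ← mul_assoc, ← C_mul,
    mul_inv_cancel₀ ha, C_1, one_mul]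
  ring

/-- `K[X][z]/(z^q - z - (a X + c)) → K[X]`, `z ↦ X`. -/
def lineHom (ha : a ≠ 0) : LangSh.ASAlg K[X] q (lin a c) →+* K[X] :=
  lift q (lin a c) (lineBase (a := a) q c) X (by rw [lineBase_lin q c ha])

theorem lineHom_comp_inv (ha : a ≠ 0) : (lineHom q c ha).comp (lineInv q a c) = RingHom.id _ := by
  apply Polynomial.ringHom_ext
  · intro x
    rw [RingHom.comp_apply, lineInv_C]
    have := DFunLike.congr_fun (lift_comp q (lin a c) (lineBase (a := a) q c) X
      (by rw [lineBase_lin q c ha])) (C x)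
    refine this.trans ?_
    rw [lineBase_C]
    rfl
  · rw [RingHom.comp_apply, lineInv_X]
    exact lift_root _ _ _ _ _

theorem lineInv_comp_hom (ha : a ≠ 0) : (lineInv q a c).comp (lineHom q c ha) = RingHom.id _ := by
  apply hom_ext
  · apply Polynomial.ringHom_ext
    · intro x
      have := DFunLike.congr_fun (lift_comp q (lin a c) (lineBase (a := a) q c) X
        (by rw [lineBase_lin q c ha])) (C x)
      change lineInv q a c (lineHom q c ha _) = _
      rw [lineHom]
      refine (congrArg _ this).trans ?_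
      rw [lineBase_C, lineInv_C]
      rfl
    · have := DFunLike.congr_fun (lift_comp q (lin a c) (lineBase (a := a) q c) X
        (by rw [lineBase_lin q c ha])) X
      change lineInv q a c (lineHom q c ha _) = _
      rw [lineHom]
      refine (congrArg _ this).trans ?_
      rw [lineBase_X, map_mul, map_sub, map_sub, map_pow, lineInv_C, lineInv_C, lineInv_X, root_eq,
        ← map_sub, ← map_mul]
      change _ = algebraMap K[X] (LangSh.ASAlg K[X] q (lin a c)) X
      congr 1
      rw [lin, add_sub_cancel_right, ← mul_assoc, ← C_mul, inv_mul_cancel₀ ha, C_1, one_mul]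
  · change lineInv q a c (lineHom q c ha _) = _
    rw [lineHom, lift_root, lineInv_X]
    rfl

/-- The structure morphism of the affine line. -/
abbrev str (K : Type u) [Field K] : Spec (CommRingCat.of K[X]) ⟶ Spec (CommRingCat.of K) :=
  Spec.map (CommRingCat.ofHom (C : K →+* K[X]))

/-- `z^q - z = a X + c` is an affine line. -/
def line (ha : a ≠ 0) : Spec (CommRingCat.of K[X]) ⟶ Spec (CommRingCat.of (LangSh.ASAlg K[X] q (lin a c))) :=
  Spec.map (CommRingCat.ofHom (lineHom q c ha))

def line' (a c : K) : Spec (CommRingCat.of (LangSh.ASAlg K[X] q (lin a c))) ⟶ Spec (CommRingCat.of K[X]) :=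
  Spec.map (CommRingCat.ofHom (lineInv q a c))

theorem line_line' (ha : a ≠ 0) : line q c ha ≫ line' q a c = 𝟙 _ := by
  rw [line, line', ← Spec.map_comp, ← CommRingCat.ofHom_comp, lineHom_comp_inv]
  exact Spec.map_id _

theorem line'_line (ha : a ≠ 0) : line' q a c ≫ line q c ha = 𝟙 _ := by
  rw [line, line', ← Spec.map_comp, ← CommRingCat.ofHom_comp, lineInv_comp_hom]
  exact Spec.map_id _

theorem isIso_line (ha : a ≠ 0) : IsIso (line q c ha) :=
  ⟨⟨line' q a c, line_line' q c ha, line'_line q c ha⟩⟩

theorem isIso_line' (ha : a ≠ 0) : IsIso (line' q a c) :=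
  ⟨⟨line q c ha, line'_line q c ha, line_line' q c ha⟩⟩

theorem line'_str : line' q a c ≫ str K = cov q (lin a c) ≫ str K := by
  rw [line', str, cov, LangSh.cover, ← Spec.map_comp, ← Spec.map_comp, ← CommRingCat.ofHom_comp,
    ← CommRingCat.ofHom_comp]
  congr 2
  ext x
  exact lineInv_C q a c x

theorem connectedSpace_line (ha : a ≠ 0) :
    ConnectedSpace (Spec (CommRingCat.of (LangSh.ASAlg K[X] q (lin a c)))) := by
  have h1 : IsDomain K[X] := inferInstance
  have h2 : ConnectedSpace (Spec (CommRingCat.of K[X])) := inferInstance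
  have := isIso_line q c ha
  have h3 : Function.Surjective (line q c ha) := (line q c ha).surjective
  exact h3.connectedSpace (line q c ha).continuous

end Line

end Groth.Agent.Sga4h.H582.ASCov
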