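import Groth.Agent.Sga4h.H918.Lang
import Groth.Agent.Sga4h.H582.ASCov

/-!
# The sheaves `F_θ(f, 1)` without global sections

* `exists_eq_smul`: over a connected étale scheme, the sections of a sheaf with a free generator are its multiples.
* `eq_zero_of_gen`: a sheaf with a free generator `s` over a connected covering `W`, and an automorphism `δ` of `W` with
  `δ^* s = θ s`, `θ ≠ 1`, has no nonzero global section.
* `eq_zero`: `X = Spec R`, the Artin–Schreier covering `z ^ q - z = g` connected, `θ` nontrivial on `k`: `F_θ(g, 1)` has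
  no nonzero global section.
-/

set_option autoImplicit false

universe u

open CategoryTheory CategoryTheory.Limits AlgebraicGeometry Polynomial Opposite

namespace Groth.Agent.Sga4h.H582.LangSec

open Groth.Agent.Etbase Groth.Agent.Etcore Groth.Agent.EtpbcA Groth.Agent.Etcore.LVan
open Groth.Agent.Sga4h.H918.Gen Groth.Agent.Sga4h.H918.Ask Groth.Agent.Sga4h.H918.Lang
open Groth.Agent.Sga4h.H582.ASCov

section Conn

variable {Λ : Type (u + 1)} [CommRing Λ] {X : Scheme.{u}}

/-- Over a connected étale scheme the sections of a sheaf with a free generator are its multiples. -/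
theorem exists_eq_smul {L : EtModW.Mod Λ X} {W : X.Etale} [ConnectedSpace W.left]
    {s : EtModW.sect Λ L W} (hs : IsGen L s) (t : EtModW.sect Λ L W) : ∃ r : Λ, t = r • s := by
  have h1 : ∀ y : W.left, ∃ r : Λ, Van L (t - r • s) y := fun y => by
    obtain ⟨m, hm⟩ := (hs y).2 W (𝟙 W) y rfl t
    refine ⟨m, ?_⟩
    rwa [res_id, LinearMap.toSpanSingleton_apply] at hm
  choose r hr using h1
  have h2 : IsLocallyConstant r := by
    rw [IsLocallyConstant.iff_exists_open]
    intro y
    refine ⟨{z | Van L (t - r y • s) z}, isOpen_van _, hr y, fun z hz => ?_⟩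
    have h3 : Van L ((r z - r y) • s) z := by
      have h4 := (show Van L (t - r y • s) z from hz).sub (hr z)
      rwa [sub_sub_sub_cancel_left, ← sub_smul] at h4
    exact sub_eq_zero.1 ((hs z).1 _ h3)
  obtain ⟨y⟩ := (inferInstance : Nonempty W.left)
  refine ⟨r y, sect_ext L fun z => ?_⟩
  have h4 : r z = r y := h2.apply_eq_of_preconnectedSpace z y
  rw [← h4]
  exact hr z

/-- **No sections**, criterion. -/
theorem eq_zero_of_gen [IsDomain Λ] {L : EtModW.Mod Λ X} {W : X.Etale} [ConnectedSpace W.left]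
    (hW : ∀ x : X, ∃ w : W.left, W.hom w = x) {s : EtModW.sect Λ L W} (hs : IsGen L s) (δ : W ⟶ W)
    (θ : Λ) (hδ : res L δ s = θ • s) (hθ : θ ≠ 1) (t : EtModW.sect Λ L (EtCoh.top X)) : t = 0 := by
  let i : W ⟶ EtCoh.top X := Groth.Agent.Sga5.H835.InvRes.toTop W
  obtain ⟨r, hr⟩ := exists_eq_smul hs (res L i t)
  have h0 : δ ≫ i = i := MorphismProperty.Over.Hom.ext (MorphismProperty.Over.w δ)
  have h1 : res L δ (res L i t) = res L i t := by rw [← res_comp, h0]
  rw [hr, map_smul, hδ, smul_smul] at h1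
  obtain ⟨y⟩ := (inferInstance : Nonempty W.left)
  have h2 : (r * θ - r) • s = 0 := by rw [sub_smul, h1, sub_self]
  have h3 : r * θ - r = 0 := (hs y).1 _ (van_zero_of_eq (by
    rw [LinearMap.toSpanSingleton_apply]
    exact h2) y)
  have h4 : r = 0 := by
    have h5 : r * (θ - 1) = 0 := by rw [mul_sub, mul_one, h3]
    exact (mul_eq_zero.1 h5).resolve_right (sub_ne_zero.2 hθ)
  rw [h4, zero_smul] at hr
  refine sect_ext' L fun x => ?_
  obtain ⟨w, hw⟩ := hW x
  exact ⟨W, i, w, hw, by rw [hr, map_zero]⟩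

end Conn

section Spec

/-- Functions on affine schemes. -/
noncomputable abbrev fn {R : Type u} [CommRing R] (g : R) : Γ(Spec (CommRingCat.of R), ⊤) :=
  (Scheme.ΓSpecIso (CommRingCat.of R)).inv.hom g

theorem appTop_fn {R S : Type u} [CommRing R] [CommRing S] (φ : R →+* S) (r : R) :
    (Spec.map (CommRingCat.ofHom φ)).appTop.hom (fn r) = fn (φ r) := by
  have h := Scheme.ΓSpecIso_inv_naturality (CommRingCat.ofHom φ)
  exact (congrArg (fun q => q.hom r) h).symm

theorem fn_hom {R : Type u} [CommRing R] (x : Γ(Spec (CommRingCat.of R), ⊤)) :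
    fn ((Scheme.ΓSpecIso (CommRingCat.of R)).hom.hom x) = x := by
  have h := (Scheme.ΓSpecIso (CommRingCat.of R)).hom_inv_id
  exact congrArg (fun q => q.hom x) h

variable {k : Type*} [Field k] [Fintype k] {Λ : Type (u + 1)} [CommRing Λ] {R : Type u} [CommRing R]

/-- The ring homomorphism `k → R` given by `ρ`. -/
noncomputable abbrev rh (ρ : k →+* Γ(Spec (CommRingCat.of R), ⊤)) : k →+* R :=
  (Scheme.ΓSpecIso (CommRingCat.of R)).hom.hom.comp ρ

omit [Fintype k] in
theorem fn_rh (ρ : k →+* Γ(Spec (CommRingCat.of R), ⊤)) (c : k) : fn (rh ρ c) = ρ c := fn_hom _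

/-- The root on the Artin–Schreier covering. -/
theorem fn_root (q : ℕ) (g : R) :
    (fn (AdjoinRoot.root (X ^ q - X - C g : R[X])) : Γ(Spec (CommRingCat.of (LangSh.ASAlg R q g)), ⊤)) ^ q -
      fn (AdjoinRoot.root (X ^ q - X - C g : R[X])) = (cov q g).appTop.hom (fn g) := by
  rw [appTop_fn]
  rw [← map_pow, ← map_sub]
  exact congrArg _ (root_eq q g)

/-- The Artin–Schreier covering as an étale scheme. -/
noncomputable def covE (ρ : k →+* R) (g : R) : (Spec (CommRingCat.of R)).Etale :=
  have := etale_cov (Fintype.card k) g Fintype.one_lt_card (cast_card_eq_zero ρ)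
  Scheme.Etale.mk (cov (Fintype.card k) g)

theorem translate_cond (ρ : k →+* R) (g : R) (c : k) :
    (AdjoinRoot.root (X ^ Fintype.card k - X - C g : R[X]) +
      algebraMap R (LangSh.ASAlg R (Fintype.card k) g) (ρ c)) ^ Fintype.card k -
      (AdjoinRoot.root (X ^ Fintype.card k - X - C g : R[X]) +
      algebraMap R (LangSh.ASAlg R (Fintype.card k) g) (ρ c)) =
      algebraMap R (LangSh.ASAlg R (Fintype.card k) g) g := by
  rw [H918.FrobFix.add_pow_card ((algebraMap R (LangSh.ASAlg R (Fintype.card k) g)).comp ρ),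
    ← map_pow, ← map_pow, FiniteField.pow_card, add_sub_add_right_eq_sub, root_eq]

/-- The translation by `c` on the Artin–Schreier covering. -/
noncomputable def tr (ρ : k →+* R) (g : R) (c : k) : covE ρ g ⟶ covE ρ g :=
  MorphismProperty.Over.homMk
    (Spec.map (CommRingCat.ofHom (lift (Fintype.card k) g (algebraMap R _) _ (translate_cond ρ g c))))
    (by
      change Spec.map _ ≫ cov _ g = cov _ g
      rw [cov, LangSh.cover, ← Spec.map_comp, ← CommRingCat.ofHom_comp, lift_comp])

/-- The root on the Artin–Schreier covering. -/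
noncomputable def zr (ρ : k →+* R) (g : R) : Γ((covE ρ g).left, ⊤) :=
  fn (AdjoinRoot.root (X ^ Fintype.card k - X - C g : R[X]))

theorem zr_eq (ρ : k →+* R) (g : R) :
    zr ρ g ^ Fintype.card k - zr ρ g = fb (covE ρ g) (fn g) := fn_root (Fintype.card k) g

theorem pb_tr (ρ : k →+* R) (g : R) (c : k) :
    pb (tr ρ g c) (zr ρ g) = zr ρ g + fb (covE ρ g) (fn (ρ c)) := by
  refine (appTop_fn _ _).trans ?_
  rw [lift_root]
  refine (map_add _ _ _).trans ?_
  congr 1
  exact (appTop_fn (algebraMap R (LangSh.ASAlg R (Fintype.card k) g)) (ρ c)).symm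

/-- **No sections**: `F_θ(g, 1)` on `Spec R`. -/
theorem eq_zero [IsDomain Λ] (g : R)
    [hcon : ConnectedSpace (Spec (CommRingCat.of (LangSh.ASAlg R (Fintype.card k) g)))]
    (ρ : k →+* Γ(Spec (CommRingCat.of R), ⊤)) (θ : GG k →* Λˣ) (c : k)
    (hθ : θ (Multiplicative.ofAdd c, 1) ≠ 1)
    (t : EtModW.sect Λ (F ρ θ (fn g) 1 isUnit_one) (EtCoh.top (Spec (CommRingCat.of R)))) : t = 0 := by
  let T := tor ρ (fn g) 1 isUnit_one
  obtain ⟨s₀, hs₀, hs₀'⟩ := hasGen_F T θ
  let W := covE (rh ρ) g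
  let z' : Γ(W.left, ⊤) := zr (rh ρ) g
  have hz : z' ^ Fintype.card k - z' = fb W (fn g) := zr_eq (rh ρ) g
  have hy : (1 : Γ(W.left, ⊤)) ^ (Fintype.card k - 1) = fb W 1 := by rw [one_pow, map_one]
  obtain ⟨a, ha1, ha2⟩ := T.exists_hom W z' 1 hz hy
  have hw : tr (rh ρ) g c ≫ a = a ≫ T.act (Multiplicative.ofAdd c, 1) := by
    apply T.hom_ext
    · rw [pb_comp, pb_comp, ha1, T.act_z, map_add, ha1, Tor.pb_cst]
      refine (pb_tr (rh ρ) g c).trans ?_
      rw [fn_rh]
      rfl
    · rw [pb_comp, pb_comp, ha2, T.act_y, map_mul, ha2, Tor.pb_cst, map_one]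
      change 1 = Tor.cst ρ W (1 : k) * 1
      rw [map_one, mul_one]
  have : ConnectedSpace W.left := hcon
  refine eq_zero_of_gen (W := W) (fun x => ?_) (hs₀.res a) (tr (rh ρ) g c)
    (θ (Multiplicative.ofAdd c, 1) : Λ) ?_ ?_ t
  · have := surjective_cov (Fintype.card k) g Fintype.one_lt_card
    exact (cov (Fintype.card k) g).surjective x
  · rw [← res_comp, hw, res_comp, hs₀', map_smul]
  · intro h
    exact hθ (Units.ext h)

end Spec

end Groth.Agent.Sga4h.H582.LangSec
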