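import Groth.Agent.Sga4h.H582.ASSec
import Groth.Agent.Sga4h.H582.LangSec
import Groth.Agent.Sga4h.H299.LamMod
import Groth.Agent.Sga4h.H768.ConnGen
import Groth.Agent.Sga4h.H918.SpecCov
import Groth.Prelude.Def_SixF2

/-!
# Artin–Schreier sheaves as sheaves `F_θ(g, 1)`

* `exists_iso_F` : `X = Spec R`, `R` a `k`-algebra, the Artin–Schreier covering `z ^ q - z = g` connected, `L` a sheaf of
  `Λ`-modules which is constant of rank one on the covering: `L ≅ F_θ(g, 1)` for a character `θ` of `k`;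
* `mvPoly` : the Artin–Schreier sheaf of `(ψ, Σ x_i)`, `ψ ≠ 1`, on the affine space is `F_θ(Σ x_i, 1)` with `θ ≠ 1`.
-/

set_option autoImplicit false

universe u

open CategoryTheory CategoryTheory.Limits AlgebraicGeometry Polynomial Opposite

namespace Groth.Agent.Sga4h.H582.E4

open Groth.Agent.Etbase Groth.Agent.Etcore Groth.Agent.EtpbcA Groth.Agent.Etcore.LVan
open Groth.Agent.Sga4h.H918.Gen Groth.Agent.Sga4h.H918.Ask Groth.Agent.Sga4h.H918.Lang
open Groth.Agent.Sga4h.H582 Groth.Agent.Sga4h.H582.ASCov Groth.Agent.Sga4h.H582.LangSec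
open Groth.Agent.Sga4h.H299.LamMod Groth.Agent.Sga4h.H918.SpecCov Groth.Agent.Sga4h.H918.Root

section General

variable {k : Type*} [Field k] [Fintype k] {Λ : Type (u + 1)} [CommRing Λ] {R : Type u} [CommRing R]

omit [Field k] [Fintype k] in
/-- The universal property of the Artin–Schreier covering. -/
theorem isRoot_cov (q : ℕ) (g : R) : IsRoot (cov q g) (PA q (fn g))
    (fn (AdjoinRoot.root (X ^ q - X - C g : R[X])) : Γ(Spec (CommRingCat.of (LangSh.ASAlg R q g)), ⊤)) := by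
  have h := isRoot_spec (X ^ q - X - C g : R[X])
  have e : (X ^ q - X - C g : R[X]).map (gm R) = PA q (gm R g) := by
    rw [Polynomial.map_sub, Polynomial.map_sub, Polynomial.map_pow, map_X, map_C]
  rw [e] at h
  exact h

/-- Morphisms to the Artin–Schreier covering are determined by the image of the root. -/
theorem hom_ext_covE (ρ : k →+* R) (g : R) {W : (Spec (CommRingCat.of R)).Etale} {a b : W ⟶ covE ρ g}
    (h : pb a (zr ρ g) = pb b (zr ρ g)) : a = b := by
  apply MorphismProperty.Over.Hom.ext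
  exact (isRoot_cov (Fintype.card k) g).uniq _ _
    ((MorphismProperty.Over.w a).trans (MorphismProperty.Over.w b).symm) h

theorem exists_hom_covE (ρ : k →+* R) (g : R) (W : (Spec (CommRingCat.of R)).Etale) (z : Γ(W.left, ⊤))
    (hz : z ^ Fintype.card k - z = fb W (fn g)) : ∃ a : W ⟶ covE ρ g, pb a (zr ρ g) = z := by
  obtain ⟨a, h1, h2⟩ := (isRoot_cov (Fintype.card k) g).exists_lift (show W.left ⟶ _ from W.hom) z
    ((eval_PA _ _ _ _).2 hz)
  exact ⟨MorphismProperty.Over.homMk a h1, h2⟩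

theorem tr_one (ρ : k →+* R) (g : R) : tr ρ g 0 = 𝟙 _ := by
  apply hom_ext_covE
  rw [pb_tr, map_zero]
  rw [fn, map_zero, map_zero, add_zero]
  rfl

theorem tr_add (ρ : k →+* R) (g : R) (c d : k) : tr ρ g (c + d) = tr ρ g c ≫ tr ρ g d := by
  apply hom_ext_covE
  rw [pb_comp]
  refine (pb_tr ρ g (c + d)).trans ?_
  refine Eq.trans ?_ ((congrArg _ (pb_tr ρ g d)).trans (map_add _ _ _)).symm
  rw [pb_tr, pb_fb, map_add ρ, fn, map_add, map_add, add_assoc]

/-- **Sheaves which are constant on a connected Artin–Schreier covering.** -/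
theorem exists_iso_F' (ρ : k →+* R) (g : R)
    [hcon : ConnectedSpace (Spec (CommRingCat.of (LangSh.ASAlg R (Fintype.card k) g)))]
    (L : EtModW.Mod Λ (Spec (CommRingCat.of R)))
    (e : Nonempty ((EtModW.pull Λ (LangSh.cover R (LangSh.ASAlg R (Fintype.card k) g))).obj L ≅
      EtModW.constMod Λ _ Λ)) :
    ∃ θ : Multiplicative k →* Λˣ, HasGen L (covE ρ g)
      (fun c : Multiplicative k => tr ρ g (Multiplicative.toAdd c)) (fun c => (θ c : Λ)) ∧
      Nonempty (L ≅ F ((Scheme.ΓSpecIso (CommRingCat.of R)).inv.hom.comp ρ)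
      (θ.comp (MonoidHom.fst (Multiplicative k) kˣ)) ((Scheme.ΓSpecIso (CommRingCat.of R)).inv.hom g) 1
      isUnit_one) := by
  have : ConnectedSpace (show Scheme.{u} from (covE ρ g).left) := hcon
  obtain ⟨θ, hθ⟩ := H768.ConnGen.exists_char (L := L) (T := covE ρ g)
    (fun c : Multiplicative k => tr ρ g (Multiplicative.toAdd c)) (tr_one ρ g)
    (fun c d => tr_add ρ g _ _) e
  refine ⟨θ, hθ, ?_⟩
  let T := tor ((Scheme.ΓSpecIso (CommRingCat.of R)).inv.hom.comp ρ)
    ((Scheme.ΓSpecIso (CommRingCat.of R)).inv.hom g) 1 isUnit_one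
  have hz := T.eq_z
  -- the morphism from the full torsor to the Artin–Schreier covering
  obtain ⟨π, hπ⟩ := exists_hom_covE ρ g T.T T.z hz
  apply nonempty_iso_F T
  refine hθ.res π (fun a : GG k => a.1) (fun a => ?_)
  apply hom_ext_covE
  rw [pb_comp, hπ, T.act_z, pb_comp, pb_tr, map_add, hπ, pb_fb]
  rfl

/-- **Sheaves which are constant on a connected Artin–Schreier covering.** -/
theorem exists_iso_F (ρ : k →+* R) (g : R)
    [hcon : ConnectedSpace (Spec (CommRingCat.of (LangSh.ASAlg R (Fintype.card k) g)))]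
    (L : EtModW.Mod Λ (Spec (CommRingCat.of R)))
    (e : Nonempty ((EtModW.pull Λ (LangSh.cover R (LangSh.ASAlg R (Fintype.card k) g))).obj L ≅
      EtModW.constMod Λ _ Λ)) :
    ∃ θ : Multiplicative k →* Λˣ, Nonempty (L ≅ F ((Scheme.ΓSpecIso (CommRingCat.of R)).inv.hom.comp ρ)
      (θ.comp (MonoidHom.fst (Multiplicative k) kˣ)) ((Scheme.ΓSpecIso (CommRingCat.of R)).inv.hom g) 1
      isUnit_one) := by
  obtain ⟨θ, -, h⟩ := exists_iso_F' ρ g L e
  exact ⟨θ, h⟩

end General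

section Mv

open Groth.Agent.Etcore.LocSec Groth.Agent.Etcore.LocEt Groth.Agent.Etcore.PullCoh Groth.Agent.Etcore.HpullCalc Groth.Agent.Sga4h.H917.GSec

variable {k K : Type u} [Field k] [Fintype k] [Field K] [Algebra k K] [Algebra.IsAlgebraic k K]
  [Fact FinFr.PullExact.{u}] {Λ : Type} [Field Λ]

/-- **The Artin–Schreier sheaf of `(ψ, Σ x_i)` on the affine space.** -/
theorem mvPoly (n : ℕ) (hn : n ≠ 0) (ψ : AddChar k Λ) (hψ : ψ ≠ 1)
    (L : EtLam.Sheaf Λ (Spec (CommRingCat.of (MvPolynomial (Fin n) k))))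
    (hL : LangSh.IsASSheaf K ψ (∑ i, MvPolynomial.X i) L) :
    ∃ θ : Multiplicative k →* (UL.{u} Λ)ˣ, θ ≠ 1 ∧ Nonempty (toMod L ≅
      F ((Scheme.ΓSpecIso (CommRingCat.of (MvPolynomial (Fin n) k))).inv.hom.comp
        (algebraMap k (MvPolynomial (Fin n) k))) (θ.comp (MonoidHom.fst (Multiplicative k) kˣ))
        ((Scheme.ΓSpecIso (CommRingCat.of (MvPolynomial (Fin n) k))).inv.hom (∑ i, MvPolynomial.X i)) 1
        isUnit_one) := by
  have := ASSec.connectedSpace_mv k n hn (Fintype.card k)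
  obtain ⟨θ, ⟨e⟩⟩ := exists_iso_F (algebraMap k (MvPolynomial (Fin n) k)) (∑ i, MvPolynomial.X i) (toMod L)
    (nonempty_of_isConstOn _ L hL.1)
  refine ⟨θ, ?_, ⟨e⟩⟩
  rintro rfl
  obtain ⟨e1⟩ := trivF_right (Λ := UL.{u} Λ)
    (ρ := (Scheme.ΓSpecIso (CommRingCat.of (MvPolynomial (Fin n) k))).inv.hom.comp
      (algebraMap k (MvPolynomial (Fin n) k)))
    (f := (Scheme.ΓSpecIso (CommRingCat.of (MvPolynomial (Fin n) k))).inv.hom (∑ i, MvPolynomial.X i))
    ((1 : Multiplicative k →* (UL.{u} Λ)ˣ).comp (MonoidHom.fst (Multiplicative k) kˣ)) (fun c => rfl)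
  let t := Spec.map (CommRingCat.ofHom (MvPolynomial.map (σ := Fin n) (algebraMap k K)))
  -- the sheaf over `K` is constant
  let e2 : toMod (EtLam.pullback t L) ≅ EtModW.constMod (UL.{u} Λ) _ (UL.{u} Λ) :=
    (toModPull t L).symm ≪≫ (EtModW.pull (UL.{u} Λ) t).mapIso (e ≪≫ e1) ≪≫
      EtSix.pullConstΛ (UL.{u} Λ) t
  let e3 : (EtLam.pullback t L).carrier ≅ EtCoh.const _ Λ :=
    (abToMod _).symm ≪≫ (Groth.Agent.Etrest.ModAb.ab _ _).mapIso (e2 ≪≫ toModConst _) ≪≫ abToMod _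
  have hcon : ConnectedSpace (Spec (CommRingCat.of (MvPolynomial (Fin n) K))) := inferInstance
  have h0 : app e3.inv (EtCoh.top _) (cst _ Λ (ULift.up 1)) = 0 := ASSec.mvPoly n hn ψ hψ L hL _
  have h1 : cst (Spec (CommRingCat.of (MvPolynomial (Fin n) K))) Λ (ULift.up 1) = 0 :=
    (app_bijective e3.inv _).1 (h0.trans (map_zero _).symm)
  have h2 : cst (Spec (CommRingCat.of (MvPolynomial (Fin n) K))) Λ 0 = 0 :=
    map_zero ((EtCore.constAdj _).unit.app (AddCommGrpCat.of (ULift.{u + 1} Λ))).hom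
  have h3 := (cst_bijective _ Λ).1 (h1.trans h2.symm)
  exact one_ne_zero (congrArg ULift.down h3)

end Mv

end Groth.Agent.Sga4h.H582.E4
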