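import Groth.Agent.Sga4h.H582.ASLine
import Mathlib.RingTheory.TensorProduct.MvPolynomial

/-!
# The Artin–Schreier sheaf of `g` has no sections over `K`

`k` finite, `K` algebraic over `k`, `ψ ≠ 1` an additive character of `k`, `L` an Artin–Schreier sheaf of `(ψ, g)` on
`Spec R`, `X = Spec R ×_k K` connected.
* `eq_one_of_isConst` : if `L` becomes constant on `X` then `ψ = 1`, provided `g` takes all values at the rational points;
* `no_section` : if moreover the Artin–Schreier covering of `X` is connected, then `L` has no nonzero section over `X`;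
* `mvPoly` : the case of `R = k[x_1, …, x_n]`, `g = Σ x_i`, `n > 0`.
-/

set_option autoImplicit false
universe u
open CategoryTheory CategoryTheory.Limits AlgebraicGeometry Opposite

noncomputable section

namespace Groth.Agent.Sga4h.H582.ASSec

open Groth.Agent.Sga4h.H917 Groth.Agent.Sga4h.H582 Groth.Agent.Sga4h.H582.ASCov

section General

variable {k K : Type u} [Field k] [Fintype k] [Field K] [Algebra k K] [Algebra.IsAlgebraic k K]
  [Fact FinFr.PullExact.{u}] {Λ : Type} [Field Λ] {R : Type u} [CommRing R] [Algebra k R]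
  {X : Scheme.{u}} {t : X ⟶ Spec (CommRingCat.of R)} {p : X ⟶ Spec (CommRingCat.of K)}

/-- If `L` on `Spec R` has trace function `ψ(Tr g(x))` and becomes constant on `X` then `ψ = 1`. -/
theorem eq_one_of_isConst
    (hP : IsPullback t p (Spec.map (CommRingCat.ofHom (algebraMap k R))) (FinFr.specι k K))
    [ConnectedSpace X] (ψ : AddChar k Λ) (g : R)
    (hg : ∀ b : k, ∃ x : R →ₐ[k] (⊥ : IntermediateField k K), x g = algebraMap k _ b)
    (L : EtLam.Sheaf Λ (Spec (CommRingCat.of R)))
    (hL : LangSh.HasTraceFun k K L (fun E x => ψ (Algebra.trace k E (x g))))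
    (hc : Desc.IsConst (EtLam.pullback t L)) : ψ = 1 := by
  let E : IntermediateField k K := ⊥
  have hfin : Fintype E :=
    Fintype.ofEquiv k (IntermediateField.botEquiv k K).symm.toEquiv
  have halg : Algebra.IsAlgebraic E K := Algebra.IsAlgebraic.tower_top (K := k) E
  choose x hx0 using hg
  have hx : ∀ b, LangSh.pt (x b) ≫ Spec.map (CommRingCat.ofHom (algebraMap k R)) =
      Spec.map (CommRingCat.ofHom (algebraMap k E)) := by
    intro b
    rw [LangSh.pt, ← Spec.map_comp, ← CommRingCat.ofHom_comp]
    congr 2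
    exact (x b).comp_algebraMap
  have h1 : ∀ b, FinFr.locTrace (K := K) (LangSh.pt (x b)) L = ψ b := by
    intro b
    refine (hL E (x b)).trans ?_
    beta_reduce
    rw [hx0, Algebra.trace_algebraMap, IntermediateField.finrank_bot, one_smul]
  ext b
  rw [← h1 b, TrConst.locTrace_const hP L hc E (LangSh.pt (x b)) (LangSh.pt (x 0))
    (hx b) (hx 0), h1 0, AddChar.map_zero_eq_one]
  rfl

/-- **No sections.** -/
theorem no_section {RK : Type u} [CommRing RK] (f : R →+* RK)
    {p : Spec (CommRingCat.of RK) ⟶ Spec (CommRingCat.of K)}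
    (hP : IsPullback (Spec.map (CommRingCat.ofHom f)) p (Spec.map (CommRingCat.ofHom (algebraMap k R)))
      (FinFr.specι k K)) (ψ : AddChar k Λ) (hψ : ψ ≠ 1) (g : R)
    (hg : ∀ b : k, ∃ x : R →ₐ[k] (⊥ : IntermediateField k K), x g = algebraMap k _ b)
    [ConnectedSpace (Spec (CommRingCat.of (LangSh.ASAlg RK (Fintype.card k) (f g))))]
    (L : EtLam.Sheaf Λ (Spec (CommRingCat.of R)))
    (hL : LangSh.IsASSheaf K ψ g L)
    (s : EtCoh.sect (EtLam.pullback (Spec.map (CommRingCat.ofHom f)) L).carrier (EtCoh.top _)) :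
    s = 0 := by
  by_contra hs
  have hq : 2 ≤ Fintype.card k := Fintype.one_lt_card
  have hc : LangSh.IsConstOn (LangSh.cover RK (LangSh.ASAlg RK (Fintype.card k) (f g)))
      (EtLam.pullback (Spec.map (CommRingCat.ofHom f)) L) := by
    apply ConstOn.pullback_of_comp
    exact ConstOn.congr (covMap_cov (Fintype.card k) g f _ rfl) L (ConstOn.comp _ _ L hL.1)
  have hsur := surjective_cov (Fintype.card k) (f g) hq
  have hcon : ConnectedSpace (Spec (CommRingCat.of RK)) :=
    (Function.Surjective.connectedSpace (cov (Fintype.card k) (f g)).surjective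
      (cov (Fintype.card k) (f g)).continuous)
  exact hψ (eq_one_of_isConst hP ψ g hg L hL.2 (GlobConst.isConst_of_ne_zero _ _ hc s hs))

end General

section Mv

open MvPolynomial

/-- The Artin–Schreier covering of `Σ x_i` on the affine space is connected. -/
theorem connectedSpace_mv (K : Type u) [Field K] (n : ℕ) (hn : n ≠ 0) (q : ℕ) :
    ConnectedSpace (Spec (CommRingCat.of
      (LangSh.ASAlg (MvPolynomial (Fin n) K) q (∑ i, MvPolynomial.X i)))) := by
  obtain ⟨m, rfl⟩ := Nat.exists_eq_succ_of_ne_zero hn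
  let g : MvPolynomial (Fin (m + 1)) K := ∑ i, MvPolynomial.X i
  -- the parametrisation
  let v : Fin (m + 1) → MvPolynomial (Fin (m + 1)) K :=
    Fin.cons (X 0 ^ q - X 0 - ∑ i : Fin m, X i.succ) (fun i => X i.succ)
  let f : MvPolynomial (Fin (m + 1)) K →ₐ[K] MvPolynomial (Fin (m + 1)) K := aeval v
  have hfg : f.toRingHom g = X 0 ^ q - X 0 := by
    change aeval v (∑ i, X i) = _
    rw [map_sum, Fin.sum_univ_succ]
    simp only [aeval_X, v, Fin.cons_zero, Fin.cons_succ]
    ring
  let φ : LangSh.ASAlg (MvPolynomial (Fin (m + 1)) K) q g →+* MvPolynomial (Fin (m + 1)) K :=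
    lift q g f.toRingHom (X 0) hfg.symm
  let w : Fin (m + 1) → LangSh.ASAlg (MvPolynomial (Fin (m + 1)) K) q g :=
    Fin.cons (AdjoinRoot.root _)
      (fun i => algebraMap (MvPolynomial (Fin (m + 1)) K) _ (X i.succ))
  let σ : MvPolynomial (Fin (m + 1)) K →+* LangSh.ASAlg (MvPolynomial (Fin (m + 1)) K) q g :=
    eval₂Hom ((algebraMap (MvPolynomial (Fin (m + 1)) K) _).comp C) w
  have hσφ : σ.comp φ = RingHom.id _ := by
    apply hom_ext
    · rw [RingHom.comp_assoc, lift_comp, RingHom.id_comp]
      apply MvPolynomial.ringHom_ext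
      · intro r
        change σ (aeval v (C r)) = _
        rw [aeval_C]
        change σ (C r) = _
        exact eval₂Hom_C _ _ _
      · intro i
        change σ (aeval v (X i)) = _
        rw [aeval_X]
        refine Fin.cases ?_ (fun j => ?_) i
        · have h0 : σ (X 0) = AdjoinRoot.root _ := (eval₂Hom_X' _ _ _).trans rfl
          have h1 : ∀ j : Fin m, σ (X j.succ) = algebraMap _ _ (X j.succ) := fun j =>
            (eval₂Hom_X' _ _ _).trans rfl
          have h2 : σ (∑ i : Fin m, X i.succ) =
              algebraMap (MvPolynomial (Fin (m + 1)) K) _ (∑ i : Fin m, X i.succ) := by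
            refine (map_sum σ _ _).trans (Eq.trans ?_ (map_sum (algebraMap _ _) _ _).symm)
            exact Finset.sum_congr rfl fun j _ => h1 j
          have h3 : σ (X 0 ^ q - X 0) = algebraMap (MvPolynomial (Fin (m + 1)) K) _ g := by
            rw [map_sub, map_pow, h0]
            exact root_eq q g
          change σ (X 0 ^ q - X 0 - ∑ i : Fin m, X i.succ) = _
          rw [map_sub, h3, h2, ← map_sub]
          refine congrArg _ ?_
          change (∑ i, X i) - _ = _
          rw [Fin.sum_univ_succ, add_sub_cancel_right]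
        · change σ (X j.succ) = _
          exact (eval₂Hom_X' _ _ _).trans rfl
    · change σ (φ _) = _
      rw [lift_root]
      exact (eval₂Hom_X' _ _ _).trans rfl
  have h1 : Spec.map (CommRingCat.ofHom σ) ≫ Spec.map (CommRingCat.ofHom φ) = 𝟙 _ := by
    rw [← Spec.map_comp, ← CommRingCat.ofHom_comp, hσφ]
    exact Spec.map_id _
  have h2 : Function.Surjective (Spec.map (CommRingCat.ofHom φ)) := fun y =>
    ⟨Spec.map (CommRingCat.ofHom σ) y, by
      have := congrArg (fun q => q y) h1
      exact this⟩
  have h3 : IsDomain (MvPolynomial (Fin (m + 1)) K) := inferInstance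
  have h4 : ConnectedSpace (Spec (CommRingCat.of (MvPolynomial (Fin (m + 1)) K))) := inferInstance
  exact h2.connectedSpace (Spec.map (CommRingCat.ofHom φ)).continuous

variable {k K : Type u} [Field k] [Fintype k] [Field K] [Algebra k K] [Algebra.IsAlgebraic k K]
  [Fact FinFr.PullExact.{u}] {Λ : Type} [Field Λ]

attribute [local instance] MvPolynomial.algebraMvPolynomial in
omit [Fintype k] [Algebra.IsAlgebraic k K] [Fact FinFr.PullExact.{u}] in
theorem isPullback_mv (n : ℕ) : IsPullback
    (Spec.map (CommRingCat.ofHom (MvPolynomial.map (σ := Fin n) (algebraMap k K))))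
    (Spec.map (CommRingCat.ofHom (algebraMap K (MvPolynomial (Fin n) K))))
    (Spec.map (CommRingCat.ofHom (algebraMap k (MvPolynomial (Fin n) k)))) (FinFr.specι k K) := by
  have h := isPullback_SpecMap_of_isPushout _ _ _ _
    (CommRingCat.isPushout_of_isPushout k K (MvPolynomial (Fin n) k) (MvPolynomial (Fin n) K))
  exact h.flip

/-- **No sections of the Artin–Schreier sheaf of `Σ x_i` on the affine space.** -/
theorem mvPoly (n : ℕ) (hn : n ≠ 0) (ψ : AddChar k Λ) (hψ : ψ ≠ 1)
    (L : EtLam.Sheaf Λ (Spec (CommRingCat.of (MvPolynomial (Fin n) k))))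
    (hL : LangSh.IsASSheaf K ψ (∑ i, MvPolynomial.X i) L)
    (s : EtCoh.sect (EtLam.pullback (Spec.map (CommRingCat.ofHom
      (MvPolynomial.map (σ := Fin n) (algebraMap k K)))) L).carrier (EtCoh.top _)) : s = 0 := by
  have h1 : (MvPolynomial.map (σ := Fin n) (algebraMap k K)) (∑ i, X i) = ∑ i, X i := by
    rw [map_sum]
    exact Finset.sum_congr rfl fun i _ => MvPolynomial.map_X _ _
  have h2 : ConnectedSpace (Spec (CommRingCat.of
      (LangSh.ASAlg (MvPolynomial (Fin n) K) (Fintype.card k)
        ((MvPolynomial.map (σ := Fin n) (algebraMap k K)) (∑ i, X i))))) := by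
    rw [h1]
    exact connectedSpace_mv K n hn _
  refine no_section (MvPolynomial.map (σ := Fin n) (algebraMap k K)) (isPullback_mv n) ψ hψ _
    (fun b => ?_) L hL s
  obtain ⟨m, rfl⟩ := Nat.exists_eq_succ_of_ne_zero hn
  refine ⟨aeval (fun i : Fin (m + 1) => if i = 0 then algebraMap k _ b else 0), ?_⟩
  rw [map_sum]
  simp only [aeval_X, Finset.sum_ite_eq', Finset.mem_univ, if_true]

end Mv

end Groth.Agent.Sga4h.H582.ASSec
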