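import Groth.Agent.Sga4h.H582.TrConst
import Groth.Agent.Sga4h.H917.ConstOn
import Groth.Agent.Sga4h.H582.ASCov

/-!
# The Artin–Schreier sheaf on the affine line has no sections over `K`

`k` finite, `K` algebraic over `k`, `ψ ≠ 1` an additive character of `k`, `L` the Artin–Schreier sheaf of `(ψ, X)` on
`Spec k[X]`: its pull-back to `Spec K[X]` is constant on `z^q - z = 1 * X + 0` and has no nonzero global section.
-/

set_option autoImplicit false
universe u
open CategoryTheory CategoryTheory.Limits AlgebraicGeometry Opposite Polynomial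

noncomputable section

namespace Groth.Agent.Sga4h.H582.ASLine

open Groth.Agent.Sga4h.H917 Groth.Agent.Sga4h.H582 Groth.Agent.Sga4h.H582.ASCov

section Geom

variable (k K : Type u) [Field k] [Field K] [Algebra k K]

/-- `Spec K[X] ⟶ Spec k[X]` -/
abbrev bc : Spec (CommRingCat.of K[X]) ⟶ Spec (CommRingCat.of k[X]) :=
  Spec.map (CommRingCat.ofHom (mapRingHom (algebraMap k K)))

theorem isPullback : IsPullback (bc k K) (str K)
    (Spec.map (CommRingCat.ofHom (algebraMap k k[X]))) (FinFr.specι k K) := by
  algebraize [mapRingHom (algebraMap k K)]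
  have h := isPullback_SpecMap_of_isPushout _ _ _ _
    (CommRingCat.isPushout_of_isPushout k K k[X] K[X])
  exact h.flip

end Geom

section Cover

variable {k : Type u} (K : Type u) [Field k] [Field K] [Algebra k K] {Λ : Type} [CommRing Λ]

/-- The pull-back of an Artin–Schreier sheaf for `g` to the line over `K`. -/
theorem isConstOn (q : ℕ) (g : k[X]) (g' : K[X]) (hg : g.map (algebraMap k K) = g')
    (L : EtLam.Sheaf Λ (Spec (CommRingCat.of k[X])))
    (hL : LangSh.IsConstOn (LangSh.cover k[X] (LangSh.ASAlg k[X] q g)) L) :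
    LangSh.IsConstOn (LangSh.cover K[X] (LangSh.ASAlg K[X] q g')) (EtLam.pullback (bc k K) L) := by
  apply ConstOn.pullback_of_comp
  have h := covMap_cov q g (mapRingHom (algebraMap k K)) g' hg
  exact ConstOn.congr h L (ConstOn.comp _ _ L hL)

end Cover

variable {k K : Type u} [Field k] [Fintype k] [Field K] [Algebra k K] [Algebra.IsAlgebraic k K]
  [Fact FinFr.PullExact.{u}] {Λ : Type} [Field Λ]

/-- If `L` on `Spec k[X]` has trace function `ψ(Tr x)` and becomes constant on `Spec K[X]` then `ψ = 1`. -/
theorem eq_one_of_isConst (ψ : AddChar k Λ) (L : EtLam.Sheaf Λ (Spec (CommRingCat.of k[X])))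
    (hL : LangSh.HasTraceFun k K L (fun E x => ψ (Algebra.trace k E (x (X : k[X])))))
    (hc : Desc.IsConst (EtLam.pullback (bc k K) L)) : ψ = 1 := by
  let E : IntermediateField k K := ⊥
  have hfin : Fintype E :=
    Fintype.ofEquiv k (IntermediateField.botEquiv k K).symm.toEquiv
  have halg : Algebra.IsAlgebraic E K := Algebra.IsAlgebraic.tower_top (K := k) E
  have hcon : ConnectedSpace (Spec (CommRingCat.of K[X])) := by
    have : IsDomain K[X] := inferInstance
    infer_instance
  let x : k → (k[X] →ₐ[k] E) := fun b => aeval (algebraMap k E b)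
  have hx : ∀ b, LangSh.pt (x b) ≫ Spec.map (CommRingCat.ofHom (algebraMap k k[X])) =
      Spec.map (CommRingCat.ofHom (algebraMap k E)) := by
    intro b
    rw [LangSh.pt, ← Spec.map_comp, ← CommRingCat.ofHom_comp]
    congr 2
    exact (x b).comp_algebraMap
  have h1 : ∀ b, FinFr.locTrace (K := K) (LangSh.pt (x b)) L = ψ b := by
    intro b
    refine (hL E (x b)).trans ?_
    have h2 : x b X = algebraMap k E b := aeval_X _
    beta_reduce
    rw [h2, Algebra.trace_algebraMap, IntermediateField.finrank_bot, one_smul]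
  ext b
  rw [← h1 b, TrConst.locTrace_const (isPullback k K) L hc E (LangSh.pt (x b)) (LangSh.pt (x 0))
    (hx b) (hx 0), h1 0, AddChar.map_zero_eq_one]
  rfl

/-- **No sections.** -/
theorem no_section (ψ : AddChar k Λ) (hψ : ψ ≠ 1) (L : EtLam.Sheaf Λ (Spec (CommRingCat.of k[X])))
    (hL : LangSh.IsASSheaf K ψ (X : k[X]) L)
    (s : EtCoh.sect (EtLam.pullback (bc k K) L).carrier (EtCoh.top _)) : s = 0 := by
  by_contra hs
  have hq : 2 ≤ Fintype.card k := Fintype.one_lt_card
  have hc := isConstOn K (Fintype.card k) (X : k[X]) (lin 1 0) (by simp [lin]) L hL.1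
  have hsur := surjective_cov (Fintype.card k) (lin (1 : K) 0) hq
  have hcon := connectedSpace_line (Fintype.card k) (0 : K) (one_ne_zero : (1 : K) ≠ 0)
  exact hψ (eq_one_of_isConst ψ L hL.2 (GlobConst.isConst_of_ne_zero _ _ hc s hs))

end Groth.Agent.Sga4h.H582.ASLine
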