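import Mathlib.FieldTheory.Finite.Trace
import Mathlib.RingTheory.Norm.Basic
import Mathlib.RingTheory.Trace.Basic
import Mathlib.FieldTheory.IsAlgClosed.Basic
import Mathlib.Algebra.Polynomial.SpecificDegree

/-!
# Elements of quadratic extensions of a finite field with given trace and norm
-/

set_option autoImplicit false

open Polynomial IntermediateField

namespace Groth.Agent.Sga4h.H582.QuadPt

variable {k : Type*} [Field k] [Finite k] {K : Type*} [Field K] [Algebra k K] [Algebra.IsAlgebraic k K]
  [IsAlgClosed K]

omit [Finite k] in
theorem natDegree_quad (c d : k) : (X ^ 2 - C c * X + C d : k[X]).natDegree = 2 := by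
  compute_degree!

omit [Finite k] in
theorem monic_quad (c d : k) : (X ^ 2 - C c * X + C d : k[X]).Monic := by
  monicity!

variable (K) in
/-- Every pair `(c, d)`, `d ≠ 0`, is `(a + b, a b)` with `a`, `b` in `k`, or the trace and the norm of an element of
a finite extension of `k`. -/
theorem exists_point (c : k) (d : kˣ) : (∃ a b : kˣ, (a : k) + b = c ∧ a * b = d) ∨
    (∃ (E : IntermediateField k K) (_ : Finite E) (α : Eˣ), Algebra.trace k E α = c ∧
      Algebra.norm k (α : E) = d) := by
  by_cases h : ∃ a : k, (X ^ 2 - C c * X + C (d : k) : k[X]).IsRoot a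
  · obtain ⟨a, ha⟩ := h
    left
    have h1 : a * (c - a) = d := by
      simp only [IsRoot.def, eval_add, eval_sub, eval_pow, eval_X, eval_mul, eval_C] at ha
      linear_combination -ha
    have h2 : a ≠ 0 := by
      rintro rfl
      rw [zero_mul] at h1
      exact d.ne_zero h1.symm
    have h3 : c - a ≠ 0 := by
      intro h3
      rw [h3, mul_zero] at h1
      exact d.ne_zero h1.symm
    refine ⟨Units.mk0 a h2, Units.mk0 (c - a) h3, ?_, ?_⟩
    · change a + (c - a) = c
      ring
    · apply Units.ext
      exact h1
  · right
    push Not at h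
    have hirr : Irreducible (X ^ 2 - C c * X + C (d : k) : k[X]) := by
      rw [(monic_quad c (d : k)).irreducible_iff_roots_eq_zero_of_degree_le_three
        (by rw [natDegree_quad]) (by rw [natDegree_quad]; norm_num)]
      rw [Multiset.eq_zero_iff_forall_notMem]
      intro a ha
      exact h a (isRoot_of_mem_roots ha)
    obtain ⟨α, hα⟩ := IsAlgClosed.exists_aeval_eq_zero K (X ^ 2 - C c * X + C (d : k) : k[X]) (by
      rw [degree_eq_natDegree (monic_quad c (d : k)).ne_zero, natDegree_quad]
      norm_num)
    have hmin : minpoly k α = X ^ 2 - C c * X + C (d : k) :=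
      (minpoly.eq_of_irreducible_of_monic hirr hα (monic_quad c (d : k))).symm
    have hint : IsIntegral k α := Algebra.IsIntegral.isIntegral α
    have hfin : FiniteDimensional k k⟮α⟯ := adjoin.finiteDimensional hint
    have hgen : AdjoinSimple.gen k α ≠ 0 := by
      intro h0
      have h1 : α = 0 := congrArg (algebraMap k⟮α⟯ K) h0
      rw [h1] at hα
      simp only [map_add, map_sub, map_pow, aeval_X, map_mul, aeval_C] at hα
      have h2 : algebraMap k K (d : k) = 0 := by
        have := hα
        ring_nf at this
        exact this
      exact d.ne_zero ((algebraMap k K).injective (h2.trans (map_zero _).symm))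
    have hm : minpoly k (adjoin.powerBasis hint).gen = X ^ 2 - C c * X + C (d : k) := by
      rw [adjoin.powerBasis_gen, minpoly_gen, hmin]
    refine ⟨k⟮α⟯, Module.finite_of_finite k, Units.mk0 _ hgen, ?_, ?_⟩
    · have h1 := PowerBasis.trace_gen_eq_nextCoeff_minpoly (adjoin.powerBasis hint)
      rw [hm, adjoin.powerBasis_gen, nextCoeff_of_natDegree_pos (by rw [natDegree_quad]; norm_num),
        natDegree_quad] at h1
      refine h1.trans ?_
      simp [coeff_C]
    · have h1 := Algebra.PowerBasis.norm_gen_eq_coeff_zero_minpoly (adjoin.powerBasis hint)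
      rw [hm, adjoin.powerBasis_gen, ← PowerBasis.natDegree_minpoly, hm, natDegree_quad] at h1
      refine h1.trans ?_
      simp

end Groth.Agent.Sga4h.H582.QuadPt
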