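import Groth.Agent.Sga4h.H918.LocTr
import Groth.Agent.Sga4h.H582.E4
import Mathlib.FieldTheory.Finite.Trace

/-!
# Local traces of Frobenius of sheaves with a generator over a connected covering

* `isEig_of_gen` : the eigenvalue on an arbitrary generator is the eigenvalue on the generator of a trivialisation;
* `locTrace_of_act` : the local trace at a point in terms of a covering transformation;
* `pow_card_add`, `pow_card_mul` : `z ^ #E = z + Tr(z ^ q - z)`, `y ^ #E = N(y ^ (q - 1)) y`;
* `locTrace_ask`, `locTrace_as` : the local trace of `F_θ(f, u)` at `x` is `θ(Tr x(f), N x(u))⁻¹`.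
-/

set_option autoImplicit false

universe u

open CategoryTheory CategoryTheory.Limits AlgebraicGeometry Polynomial Opposite

namespace Groth.Agent.Sga4h.H582.EigGen

open Groth.Agent.Etbase Groth.Agent.EtpbcA
open Groth.Agent.Sga4h.H918.Gen Groth.Agent.Sga4h.H918.Ask Groth.Agent.Sga4h.H918.Lang
open Groth.Agent.Sga4h.H582 Groth.Agent.Sga4h.H582.ASCov Groth.Agent.Sga4h.H582.LangSec
open Groth.Agent.Sga4h.H299.LamMod
open Groth.Agent.Etcore.LocSec Groth.Agent.Etcore.LocEt Groth.Agent.Etcore.PullCoh
open Groth.Agent.Sga4h.H917.GSec Groth.Agent.Sga4h.H917.Desc Groth.Agent.Sga4h.H917.LocTr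
open Groth.Agent.Sga4h.H917.EigAbs

section Eig

variable {Λ : Type} [Field Λ] {X : Scheme.{u}}

/-- The eigenvalue on the generator of a trivialisation. -/
theorem isEig_of_gen (L : EtLam.Sheaf Λ X) (T : X.Etale) [ConnectedSpace (show Scheme.{u} from T.left)]
    (e : (EtCoh.pull (show T.left ⟶ X from T.hom)).obj L.carrier ≅ EtCoh.const T.left Λ)
    {s : EtModW.sect (UL.{u} Λ) (toMod L) T} (hs : IsGen (toMod L) s) (δ : T ⟶ T) (r : UL.{u} Λ)
    (hδ : Groth.Agent.Etcore.LVan.res (toMod L) δ s = r • s) :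
    IsEig L.act e δ.left (MorphismProperty.Over.w δ) r.down := by
  obtain ⟨o, ho⟩ := (lo_bijective T L.carrier).2 (one e)
  obtain ⟨a, ha⟩ := H768.ConnGen.exists_smul_eq hs (show EtModW.sect (UL.{u} Λ) (toMod L) T from o)
  have h1 : Groth.Agent.Etcore.LVan.res (toMod L) δ (show EtModW.sect (UL.{u} Λ) (toMod L) T from o) =
      r • (show EtModW.sect (UL.{u} Λ) (toMod L) T from o) := by
    rw [ha, map_smul, hδ, smul_smul, smul_smul, mul_comm]
  have h2 : res L.carrier δ o = app (L.act r.down) T o := h1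
  rw [IsEig, ← ho]
  refine (gpV_lo δ (MorphismProperty.Over.w δ) L.carrier o).trans ?_
  rw [h2, lo_map]
  rfl

end Eig

section Trace

variable {E : Type u} [Field E] [Fintype E] {K : Type u} [Field K] [Algebra E K] [Algebra.IsAlgebraic E K]
  [Fact FinFr.PullExact.{u}] {Λ : Type} [Field Λ] {X : Scheme.{u}}

/-- **The local trace in terms of a covering transformation.** -/
theorem locTrace_of_act (L : EtLam.Sheaf Λ X) (T : X.Etale) [ConnectedSpace (show Scheme.{u} from T.left)]
    (hc : LangSh.IsConstOn (show T.left ⟶ X from T.hom) L) {s : EtModW.sect (UL.{u} Λ) (toMod L) T}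
    (hs : IsGen (toMod L) s) (δ : T ⟶ T) (r : UL.{u} Λ)
    (hδ : Groth.Agent.Etcore.LVan.res (toMod L) δ s = r • s) (x : Spec (CommRingCat.of E) ⟶ X)
    (y : Spec (CommRingCat.of K) ⟶ T.left) (hy : y ≫ T.hom = FinFr.specι E K ≫ x)
    (hyδ : Spec.map (CommRingCat.ofHom ((FinFr.arith E K).symm : K →+* K)) ≫ y = y ≫ δ.left) :
    FinFr.locTrace (K := K) x L = r.down := by
  obtain ⟨e, he⟩ := hc
  refine H918.LocTr.locTrace_eq L (show T.left ⟶ X from T.hom) e he x
    (FinFr.extStr K (𝟙 (Spec (CommRingCat.of E))) ≫ y) ?_ δ.left (MorphismProperty.Over.w δ) _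
    (isEig_of_gen L T e hs δ r hδ) ?_
  · have h1 : FinFr.extπ K (𝟙 (Spec (CommRingCat.of E))) =
        FinFr.extStr K (𝟙 (Spec (CommRingCat.of E))) ≫ FinFr.specι E K := by
      have := pullback.condition (f := 𝟙 (Spec (CommRingCat.of E))) (g := FinFr.specι E K)
      rwa [Category.comp_id] at this
    rw [h1, Category.assoc, Category.assoc]
    exact congrArg _ hy
  · rw [← Category.assoc, FinFr.galAct_snd, Category.assoc, Category.assoc]
    exact congrArg _ hyδ

end Trace

section Pow

variable {k : Type*} [Field k] [Fintype k] {K : Type*} [Field K] [Algebra k K]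

theorem pow_add_sum {z a : K} (h : z ^ Fintype.card k - z = a) (n : ℕ) :
    z ^ (Fintype.card k ^ n) = z + ∑ i ∈ Finset.range n, a ^ (Fintype.card k ^ i) := by
  have hz : z ^ Fintype.card k = z + a := by rw [← h]; ring
  induction n with
  | zero => simp
  | succ n ih =>
    rw [pow_succ, pow_mul, ih, Finset.sum_range_succ']
    change FiniteField.frobeniusAlgHom k K _ = _
    rw [map_add, map_sum]
    have h1 : ∀ w : K, FiniteField.frobeniusAlgHom k K w = w ^ Fintype.card k := fun w => rfl
    rw [h1 z, hz, pow_zero, pow_one, add_assoc, add_comm a]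
    congr 2
    refine Finset.sum_congr rfl fun i _ => ?_
    rw [h1, ← pow_mul, ← pow_succ]

omit [Algebra k K] in
theorem pow_mul_prod {y a : K} (h : y ^ (Fintype.card k - 1) = a) (n : ℕ) :
    y ^ (Fintype.card k ^ n) = y * ∏ i ∈ Finset.range n, a ^ (Fintype.card k ^ i) := by
  have hy : y ^ Fintype.card k = y * a := by
    rw [← h, ← pow_succ', Nat.sub_add_cancel Fintype.card_pos]
  induction n with
  | zero => simp
  | succ n ih =>
    rw [pow_succ, pow_mul, ih, Finset.prod_range_succ', mul_pow, hy, ← Finset.prod_pow, pow_zero, pow_one,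
      mul_assoc, mul_comm a]
    congr 2
    refine Finset.prod_congr rfl fun i _ => ?_
    rw [← pow_mul, ← pow_succ]

variable {E : IntermediateField k K} [Fintype E]

theorem card_eq_pow : Fintype.card E = Fintype.card k ^ Module.finrank k E := by
  have : Module.Finite k E := inferInstance
  rw [Module.card_eq_pow_finrank (K := k)]

/-- `z ^ #E = z + Tr(z ^ q - z)`. -/
theorem pow_card_add {z : K} (a : E) (h : z ^ Fintype.card k - z = a) :
    z ^ Fintype.card E = z + algebraMap k K (Algebra.trace k E a) := by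
  rw [card_eq_pow (k := k), pow_add_sum h]
  congr 1
  have h1 := congrArg (algebraMap E K) (FiniteField.algebraMap_trace_eq_sum_pow k E a)
  rw [← IsScalarTower.algebraMap_apply] at h1
  rw [h1, map_sum, Nat.card_eq_fintype_card]
  rfl

/-- `y ^ #E = N(y ^ (q - 1)) y`. -/
theorem pow_card_mul {y : K} (a : E) (h : y ^ (Fintype.card k - 1) = a) :
    y ^ Fintype.card E = algebraMap k K (Algebra.norm k a) * y := by
  rw [card_eq_pow (k := k), pow_mul_prod h, mul_comm]
  congr 1
  have h1 := congrArg (algebraMap E K) (FiniteField.algebraMap_norm_eq_prod_pow k E a)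
  rw [← IsScalarTower.algebraMap_apply] at h1
  rw [h1, map_prod, Nat.card_eq_fintype_card]
  rfl

end Pow

section Spec

variable {k : Type u} [Field k] [Fintype k] {K : Type u} [Field K] [Algebra k K] [Algebra.IsAlgebraic k K]
  [IsAlgClosed K] [Fact FinFr.PullExact.{u}] {Λ : Type} [Field Λ] {R : Type u} [CommRing R] [Algebra k R]

omit [Fintype k] [Algebra.IsAlgebraic k K] [IsAlgClosed K] [Fact FinFr.PullExact.{u}] in
/-- Functions at a geometric point. -/
theorem appTop_pt (E : IntermediateField k K) (x : R →ₐ[k] E) (g : R) :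
    (FinFr.specι E K ≫ LangSh.pt x).appTop.hom (fn g) = fn ((x g : E) : K) := by
  rw [FinFr.specι, LangSh.pt, ← Spec.map_comp, ← CommRingCat.ofHom_comp, appTop_fn]
  rfl

omit [Fintype k] [Algebra.IsAlgebraic k K] [IsAlgClosed K] [Fact FinFr.PullExact.{u}] in
theorem appTop_pt_cst (E : IntermediateField k K) (x : R →ₐ[k] E) (c : k) :
    (FinFr.specι E K ≫ LangSh.pt x).appTop.hom (fn (algebraMap k R c)) = fn (algebraMap k K c) := by
  rw [appTop_pt, x.commutes]
  rfl

omit [Algebra k K] [Algebra.IsAlgebraic k K] [Fact FinFr.PullExact.{u}] in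
theorem exists_as (a : K) : ∃ z : K, z ^ Fintype.card k - z = a := by
  have h : (X ^ Fintype.card k - X - C a : K[X]).natDegree ≠ 0 := by
    have h1 := natDegree_PA (k := k) a
    exact h1
  obtain ⟨z, hz⟩ := IsAlgClosed.exists_root (X ^ Fintype.card k - X - C a : K[X]) (by
    intro h1
    exact h (natDegree_eq_of_degree_eq_some h1))
  refine ⟨z, ?_⟩
  rw [IsRoot.def, eval_sub, eval_sub, eval_pow, eval_X, eval_C, sub_eq_zero] at hz
  exact hz

omit [Algebra.IsAlgebraic k K] [IsAlgClosed K] [Fact FinFr.PullExact.{u}] in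
theorem arith_symm_add (E : IntermediateField k K) [Fintype E] [Algebra.IsAlgebraic E K] {z : K} (a : E)
    (h : z ^ Fintype.card k - z = a) :
    (FinFr.arith E K).symm z = z + algebraMap k K (-Algebra.trace k E a) := by
  rw [AlgEquiv.symm_apply_eq, map_add, IsScalarTower.algebraMap_apply k E K, AlgEquiv.commutes,
    ← IsScalarTower.algebraMap_apply]
  have h1 : FinFr.arith E K z = z ^ Fintype.card E := rfl
  rw [h1, pow_card_add a h, map_neg, add_neg_cancel_right]

omit [Algebra.IsAlgebraic k K] [IsAlgClosed K] [Fact FinFr.PullExact.{u}] in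
theorem arith_symm_mul (E : IntermediateField k K) [Fintype E] [Algebra.IsAlgebraic E K] {y : K} (a : E)
    (h : y ^ (Fintype.card k - 1) = a) (d : kˣ) (hd : Algebra.norm k a = d) :
    (FinFr.arith E K).symm y = algebraMap k K ((d⁻¹ : kˣ) : k) * y := by
  rw [AlgEquiv.symm_apply_eq, map_mul, IsScalarTower.algebraMap_apply k E K, AlgEquiv.commutes,
    ← IsScalarTower.algebraMap_apply]
  have h1 : FinFr.arith E K y = y ^ Fintype.card E := rfl
  rw [h1, pow_card_mul a h, hd, ← mul_assoc, ← map_mul, Units.inv_mul, map_one, one_mul]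

omit [Fact FinFr.PullExact.{u}] in
theorem inv_down {Λ : Type} [CommRing Λ] {G : Type*} [Group G] (θ : G →* (UL.{u} Λ)ˣ) (g : G) :
    ((θ g⁻¹ : (UL.{u} Λ)ˣ) : UL.{u} Λ).down * ((θ g : (UL.{u} Λ)ˣ) : UL.{u} Λ).down = 1 := by
  rw [← ULift.mul_down, ← Units.val_mul, ← map_mul, inv_mul_cancel, map_one]
  rfl

/-- **The local trace of a sheaf with a generator over the Artin–Schreier–Kummer covering.** -/
theorem locTrace_ask (f : R) (v : Rˣ)
    (T : Tor ((Scheme.ΓSpecIso (CommRingCat.of R)).inv.hom.comp (algebraMap k R)) (fn f) (fn (v : R)))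
    [ConnectedSpace (show Scheme.{u} from T.T.left)] (L : EtLam.Sheaf Λ (Spec (CommRingCat.of R)))
    (hc : LangSh.IsConstOn (show T.T.left ⟶ _ from T.T.hom) L) (θ : GG k →* (UL.{u} Λ)ˣ)
    (h : HasGen (toMod L) T.T T.act (fun g => (θ g : UL.{u} Λ))) (E : IntermediateField k K) [Fintype E]
    (x : R →ₐ[k] E) (c : k) (hc' : Algebra.trace k E (x f) = c) (d : kˣ)
    (hd : Algebra.norm k (x (v : R)) = d) :
    haveI : Algebra.IsAlgebraic E K := Algebra.IsAlgebraic.tower_top (K := k) E
    FinFr.locTrace (K := K) (LangSh.pt x) L * ((θ (Multiplicative.ofAdd c, d) : UL.{u} Λ)).down = 1 := by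
  have halg : Algebra.IsAlgebraic E K := Algebra.IsAlgebraic.tower_top (K := k) E
  obtain ⟨s, hs, hs2⟩ := h
  obtain ⟨z, hz⟩ := exists_as (k := k) ((x f : E) : K)
  obtain ⟨y, hy⟩ := IsAlgClosed.exists_pow_nat_eq ((x (v : R) : E) : K)
    (Nat.sub_pos_of_lt (Fintype.one_lt_card (α := k)))
  obtain ⟨τ, hτ1, hτ2, hτ3⟩ := T.isASK.exists_lift (FinFr.specι E K ≫ LangSh.pt x) (fn z) (fn y)
    (by rw [appTop_pt, ← map_pow, ← map_sub, hz]) (by rw [appTop_pt, ← map_pow, hy])
  have hcst : ∀ b : k, τ.appTop.hom (Tor.cst ((Scheme.ΓSpecIso (CommRingCat.of R)).inv.hom.comp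
      (algebraMap k R)) T.T b) = fn (algebraMap k K b) := by
    intro b
    have h0 := appTop_pt_cst E x b
    rw [← hτ1] at h0
    exact h0
  have h1 := locTrace_of_act L T.T hc hs (T.act (Multiplicative.ofAdd c, d)⁻¹) _
    (hs2 (Multiplicative.ofAdd c, d)⁻¹) (LangSh.pt x) τ hτ1 (by
      apply T.isASK.uniq
      · have h2 : (T.act (Multiplicative.ofAdd c, d)⁻¹).left ≫ (show T.T.left ⟶ _ from T.T.hom) = T.T.hom :=
          MorphismProperty.Over.w _
        rw [Category.assoc, Category.assoc, h2, hτ1, ← Category.assoc, FinFr.specMap_algEquiv_comp_specι]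
      · have h2 : (τ ≫ (T.act (Multiplicative.ofAdd c, d)⁻¹).left).appTop.hom T.z =
            τ.appTop.hom (pb (T.act (Multiplicative.ofAdd c, d)⁻¹) T.z) := rfl
        have h3 : (Spec.map (CommRingCat.ofHom ((FinFr.arith E K).symm : K →+* K)) ≫ τ).appTop.hom T.z =
            (Spec.map (CommRingCat.ofHom ((FinFr.arith E K).symm : K →+* K))).appTop.hom (τ.appTop.hom T.z) := rfl
        rw [h2, h3, T.act_z, hτ2, map_add, hτ2, hcst, appTop_fn, ← map_add]
        refine congrArg _ ((arith_symm_add E (x f) hz).trans ?_)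
        rw [hc']
        rfl
      · have h2 : (τ ≫ (T.act (Multiplicative.ofAdd c, d)⁻¹).left).appTop.hom T.y =
            τ.appTop.hom (pb (T.act (Multiplicative.ofAdd c, d)⁻¹) T.y) := rfl
        have h3 : (Spec.map (CommRingCat.ofHom ((FinFr.arith E K).symm : K →+* K)) ≫ τ).appTop.hom T.y =
            (Spec.map (CommRingCat.ofHom ((FinFr.arith E K).symm : K →+* K))).appTop.hom (τ.appTop.hom T.y) := rfl
        rw [h2, h3, T.act_y, hτ3, map_mul, hτ3, hcst, appTop_fn, ← map_mul]
        exact congrArg _ (arith_symm_mul E (x (v : R)) hy d hd))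
  exact (congrArg (· * ((θ (Multiplicative.ofAdd c, d) : UL.{u} Λ)).down) h1).trans (inv_down _ _)

/-- **The local trace of a sheaf with a generator over the Artin–Schreier covering.** -/
theorem locTrace_as (f : R)
    [hcon : ConnectedSpace (Spec (CommRingCat.of (LangSh.ASAlg R (Fintype.card k) f)))]
    (L : EtLam.Sheaf Λ (Spec (CommRingCat.of R)))
    (hc : LangSh.IsConstOn (LangSh.cover R (LangSh.ASAlg R (Fintype.card k) f)) L)
    (θ : Multiplicative k →* (UL.{u} Λ)ˣ)
    (h : HasGen (toMod L) (covE (algebraMap k R) f)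
      (fun c : Multiplicative k => tr (algebraMap k R) f (Multiplicative.toAdd c))
      (fun g => (θ g : UL.{u} Λ))) (E : IntermediateField k K) [Fintype E]
    (x : R →ₐ[k] E) (c : k) (hc' : Algebra.trace k E (x f) = c) :
    haveI : Algebra.IsAlgebraic E K := Algebra.IsAlgebraic.tower_top (K := k) E
    FinFr.locTrace (K := K) (LangSh.pt x) L * ((θ (Multiplicative.ofAdd c) : UL.{u} Λ)).down = 1 := by
  have halg : Algebra.IsAlgebraic E K := Algebra.IsAlgebraic.tower_top (K := k) E
  obtain ⟨s, hs, hs2⟩ := h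
  obtain ⟨z, hz⟩ := exists_as (k := k) ((x f : E) : K)
  obtain ⟨τ, hτ1, hτ2⟩ := (E4.isRoot_cov (Fintype.card k) f).exists_lift
    (FinFr.specι E K ≫ LangSh.pt x) (fn z)
    ((eval_PA _ _ _ _).2 (by rw [appTop_pt, ← map_pow, ← map_sub, hz]))
  have hcon' : ConnectedSpace (show Scheme.{u} from (covE (algebraMap k R) f).left) := hcon
  have h1 := locTrace_of_act L (covE (algebraMap k R) f) hc hs
    (tr (algebraMap k R) f (Multiplicative.toAdd (Multiplicative.ofAdd c)⁻¹)) _
    (hs2 (Multiplicative.ofAdd c)⁻¹) (LangSh.pt x) τ hτ1 (by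
      apply (E4.isRoot_cov (Fintype.card k) f).uniq
      · have h2 : (tr (algebraMap k R) f (Multiplicative.toAdd (Multiplicative.ofAdd c)⁻¹)).left ≫
            cov (Fintype.card k) f = cov (Fintype.card k) f :=
          MorphismProperty.Over.w _
        exact (Category.assoc _ _ _).trans ((congrArg _ hτ1).trans (((Category.assoc _ _ _).symm.trans
          (congrArg (· ≫ LangSh.pt x) (FinFr.specMap_algEquiv_comp_specι _))).trans
          (hτ1.symm.trans ((congrArg (τ ≫ ·) h2.symm).trans (Category.assoc _ _ _).symm))))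
      · have h2 : (τ ≫ (tr (algebraMap k R) f (Multiplicative.toAdd (Multiplicative.ofAdd c)⁻¹)).left).appTop.hom
            (zr (algebraMap k R) f) =
            τ.appTop.hom (pb (tr (algebraMap k R) f (Multiplicative.toAdd (Multiplicative.ofAdd c)⁻¹))
              (zr (algebraMap k R) f)) := rfl
        have h3 : (Spec.map (CommRingCat.ofHom ((FinFr.arith E K).symm : K →+* K)) ≫ τ).appTop.hom
            (zr (algebraMap k R) f) =
            (Spec.map (CommRingCat.ofHom ((FinFr.arith E K).symm : K →+* K))).appTop.hom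
              (τ.appTop.hom (zr (algebraMap k R) f)) := rfl
        have h4 : τ.appTop.hom (zr (algebraMap k R) f) = fn z := hτ2
        have h5 : ∀ b : k, τ.appTop.hom (fb (covE (algebraMap k R) f) (fn (algebraMap k R b))) =
            fn (algebraMap k K b) := by
          intro b
          have h0 := appTop_pt_cst E x b
          rw [← hτ1] at h0
          exact h0
        refine (h3.trans ((congrArg _ h4).trans (appTop_fn _ _))).trans (Eq.trans ?_ (h2.trans
          ((congrArg _ (pb_tr _ _ _)).trans ((map_add _ _ _).trans (congrArg₂ (· + ·) h4 (h5 _))))).symm)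
        rw [← map_add]
        refine congrArg _ ((arith_symm_add E (x f) hz).trans ?_)
        rw [hc']
        rfl)
  exact (congrArg (· * ((θ (Multiplicative.ofAdd c) : UL.{u} Λ)).down) h1).trans (inv_down _ _)

end Spec

end Groth.Agent.Sga4h.H582.EigGen
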