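import Groth.Agent.Sga4h.H917.Desc
import Groth.Agent.Etrest.HpullConst

/-!
# A rank one sheaf with a nonzero section

`F` a sheaf of `Λ`-modules on `X` (`Λ` a field) which is constant of rank one on `f : Y ⟶ X` surjective, `Y` connected.
If `F` has a nonzero global section then `F` is constant (`isConst_of_ne_zero`).  If `F` is constant on a
connected `X` then pull-back along `W ⟶ X`, `W` connected, is bijective on `H⁰` (`bijective_hp`).
-/

set_option autoImplicit false
universe u
open CategoryTheory CategoryTheory.Limits AlgebraicGeometry Opposite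

namespace Groth.Agent.Sga4h.H582.GlobConst

open Groth.Agent.Etcore.LocSec Groth.Agent.Etcore.LocEt Groth.Agent.Etcore.PullCoh
open Groth.Agent.Etcore.HpullCalc
open Groth.Agent.Sga4h.H917.GSec Groth.Agent.Sga4h.H917
open scoped Groth.Agent.Etcore.EtInst

variable {Λ : Type} [Field Λ] {X Y : Scheme.{u}}

theorem app_zero_hom {F G : EtCoh.Ab X} (V : X.Etale) (s : EtCoh.sect F V) :
    app (0 : F ⟶ G) V s = 0 := rfl

/-- A section which vanishes on a covering vanishes. -/
theorem eq_zero_of_gp (f : Y ⟶ X) [Surjective f] (F : EtLam.Sheaf Λ X)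
    (s : EtCoh.sect F.carrier (EtCoh.top X)) (hs : gp f F.carrier s = 0) : s = 0 := by
  have h : (EtCore.pullConst f Λ).inv ≫ (EtCoh.pull f).map (Desc.ofGlob F s) = 0 := by
    refine const_hom_ext _ _ fun m => ?_
    change app ((EtCore.pullConst f Λ).inv ≫ (EtCoh.pull f).map (Desc.ofGlob F s)) _
      (cst Y Λ m) = app (0 : _ ⟶ _) _ (cst Y Λ m)
    obtain ⟨m⟩ := m
    rw [app_comp, Desc.gp_bijective_cst_inv, ← gp_map, Desc.app_ofGlob, gp_map, hs, map_zero]
    rfl
  have h2 : (EtCoh.pull f).map (Desc.ofGlob F s) = 0 := by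
    rw [← cancel_epi (EtCore.pullConst f Λ).inv, h, comp_zero]
  have := EtpbcB.SurjFaithful.pull_faithful f
  have h3 : Desc.ofGlob F s = 0 := (EtCoh.pull f).map_injective (by rw [h2, Functor.map_zero])
  have h4 := Desc.app_ofGlob F s (ULift.up 1)
  rw [h3] at h4
  have h5 : app (F.act (ULift.up.{u + 1} (1 : Λ)).down) (EtCoh.top X) s = s := Desc.app_act_one F _ s
  rw [h5] at h4
  exact h4.symm

/-- A nonzero section trivialises a sheaf of rank one. -/
theorem isConst_of_ne_zero (f : Y ⟶ X) [Surjective f] [ConnectedSpace Y] (F : EtLam.Sheaf Λ X)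
    (hF : LangSh.IsConstOn f F) (s : EtCoh.sect F.carrier (EtCoh.top X)) (hs : s ≠ 0) :
    Desc.IsConst F := by
  obtain ⟨ψ, hψ⟩ := hF
  obtain ⟨⟨r⟩, hr⟩ := (cst_bijective Y Λ).2 (app ψ.hom _ (gp f _ s))
  have hr0 : r ≠ 0 := by
    rintro rfl
    apply hs
    apply eq_zero_of_gp f F s
    apply (app_bijective ψ.hom _).1
    rw [← hr, map_zero]
    exact map_zero ((EtCore.constAdj Y).unit.app (AddCommGrpCat.of (ULift.{u + 1} Λ))).hom
  refine Desc.isConst_of_glob f F ψ hψ (app (F.act r⁻¹) _ s) ?_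
  rw [gp_map, ← app_comp, hψ, app_comp, ← hr, Desc.app_constSMul, inv_mul_cancel₀ hr0]

/-- Pull-back on `H⁰` for a constant sheaf. -/
theorem bijective_hp {W : Scheme.{u}} (g : W ⟶ X) [PreservesFiniteLimits (EtCoh.pull g)]
    [ConnectedSpace W] [ConnectedSpace X] (F : EtLam.Sheaf Λ X) (hF : Desc.IsConst F) :
    Function.Bijective (hp g F.carrier 0) := by
  obtain ⟨e, -⟩ := hF
  have hX : ConnectedSpace (EtCoh.top X).left := ‹ConnectedSpace X›
  have hW : ConnectedSpace (EtCoh.top W).left := ‹ConnectedSpace W›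
  have h1 := (Groth.Agent.Etrest.HpullConst.isIso_unit_iff X (ULift.{u + 1} Λ)
    (EtCore.topIsTerminal X)).2 (Groth.Agent.Etrest.HpullConst.bijective_const _)
  have h2 := (Groth.Agent.Etrest.HpullConst.isIso_unit_iff W (ULift.{u + 1} Λ)
    (EtCore.topIsTerminal W)).2 (Groth.Agent.Etrest.HpullConst.bijective_const _)
  have h3 := Groth.Agent.Etrest.HpullConst.bijective_Hpull_zero_const g
    (AddCommGrpCat.of (ULift.{u + 1} Λ))
    (Groth.Agent.Etrest.HpullConst.constU_map_bijective W _ _ (EtCore.topIsTerminal W) h2)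
    (Groth.Agent.Etrest.HpullConst.constU_map_bijective X _ _ (EtCore.topIsTerminal X) h1)
  exact bijective_hp_of_iso g e.symm (n := 0) h3

end Groth.Agent.Sga4h.H582.GlobConst
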