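import Groth.Agent.Sga4h.H582.TrLin

/-!
# The local trace of Frobenius as a trace on a space of global sections
-/

set_option autoImplicit false
universe u
open CategoryTheory CategoryTheory.Limits AlgebraicGeometry Opposite Abelian
open scoped Groth.Agent.Etcore.EtInst
open Groth.Agent.Etcore.EtInst Groth.Agent.Etcore.PullCoh Groth.Agent.Etcore.HpullCalc

noncomputable section

namespace Groth.Agent.Sga4h.H582.TrPt

variable {k : Type u} [Field k] {K : Type u} [Field K] [Algebra k K] [Fact FinFr.PullExact.{u}]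

theorem galH_eq {X₀ : Scheme.{u}} (a : X₀ ⟶ Spec (CommRingCat.of k)) (σ : K ≃ₐ[k] K)
    (G : EtCoh.Ab X₀) (n : ℕ) [PreservesFiniteLimits (EtCoh.pull (FinFr.galAct a σ))]
    (y : HH (FinFr.ext K a) ((EtCoh.pull (FinFr.extπ K a)).obj G) n) :
    @Eq (HH (FinFr.ext K a) ((EtCoh.pull (FinFr.extπ K a)).obj G) n) (FinFr.galH a σ G n y)
      (hpVia (FinFr.galAct a σ) (FinFr.extπ K a) (FinFr.extπ K a) (FinFr.galAct_fst a σ) G n y) :=
  HpullVia_apply_eq_hpVia (FinFr.galAct a σ) (FinFr.extπ K a) (FinFr.extπ K a)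
    (FinFr.galAct_fst a σ) G n y

omit [Fact FinFr.PullExact.{u}] in
theorem via_eq {Λ : Type} [CommRing Λ] {X Z : Scheme.{u}} (t : X ⟶ Z) (s : X ⟶ X) (hs : s ≫ t = t)
    [PreservesFiniteLimits (EtCoh.pull s)] (L : EtLam.Sheaf Λ Z) (n : ℕ)
    (y : HH X ((EtCoh.pull t).obj L.carrier) n) :
    @Eq (HH X ((EtCoh.pull t).obj L.carrier) n) (via t s hs L n y) (hpVia s t t hs L.carrier n y) :=
  HpullVia_apply_eq_hpVia s t t hs L.carrier n y

section Fin

variable [Fintype k] [Algebra.IsAlgebraic k K] {Λ : Type} [CommRing Λ] {X₀ X : Scheme.{u}}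

theorem res_via (x : Spec (CommRingCat.of k) ⟶ X₀) (L : EtLam.Sheaf Λ X₀) (t : X ⟶ X₀)
    (s : X ⟶ X) (hs : s ≫ t = t) (x' : FinFr.ext K (𝟙 (Spec (CommRingCat.of k))) ⟶ X)
    (hx : x' ≫ t = FinFr.extπ K (𝟙 _) ≫ x)
    (hsx : FinFr.galAct (𝟙 _) (FinFr.arith k K).symm ≫ x' = x' ≫ s)
    [PreservesFiniteLimits (EtCoh.pull s)] [PreservesFiniteLimits (EtCoh.pull x')] (n : ℕ)
    (y : HH X ((EtCoh.pull t).obj L.carrier) n) :
    @Eq (HH (FinFr.ext K (𝟙 (Spec (CommRingCat.of k))))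
        ((EtCoh.pull (FinFr.extπ K (𝟙 _))).obj ((EtCoh.pull x).obj L.carrier)) n)
      (resAdd (FinFr.extπ K (𝟙 _)) x t x' hx L.carrier n (via t s hs L n y))
      (FinFr.galH (𝟙 _) (FinFr.arith k K).symm ((EtCoh.pull x).obj L.carrier) n
        (resAdd (FinFr.extπ K (𝟙 _)) x t x' hx L.carrier n y)) := by
  have i1 := FinFr.pullExact_out (FinFr.galAct (𝟙 (Spec (CommRingCat.of k))) (FinFr.arith k K).symm)
  have i2 := FinFr.pullExact_out (FinFr.galAct (𝟙 (Spec (CommRingCat.of k))) (FinFr.arith k K).symm ≫ x')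
  have h1 := resAdd_hpVia (FinFr.extπ K (𝟙 _)) x t x' hx L.carrier n s hs
    (FinFr.galAct (𝟙 (Spec (CommRingCat.of k))) (FinFr.arith k K).symm)
    (FinFr.galAct_fst _ _) hsx y
  exact ((congrArg _ (via_eq t s hs L n y)).trans h1).trans
    (galH_eq (𝟙 _) (FinFr.arith k K).symm ((EtCoh.pull x).obj L.carrier) n
      (resAdd (FinFr.extπ K (𝟙 _)) x t x' hx L.carrier n y)).symm

/-- The action of geometric Frobenius on the fibre is conjugate to the action of `s`. -/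
theorem locTrace_eq (x : Spec (CommRingCat.of k) ⟶ X₀) (L : EtLam.Sheaf Λ X₀) (t : X ⟶ X₀)
    (s : X ⟶ X) (hs : s ≫ t = t) (x' : FinFr.ext K (𝟙 (Spec (CommRingCat.of k))) ⟶ X)
    (hx : x' ≫ t = FinFr.extπ K (𝟙 _) ≫ x)
    (hsx : FinFr.galAct (𝟙 _) (FinFr.arith k K).symm ≫ x' = x' ≫ s)
    [PreservesFiniteLimits (EtCoh.pull s)] [PreservesFiniteLimits (EtCoh.pull x')]
    (hb : Function.Bijective (hp x' ((EtCoh.pull t).obj L.carrier) 0)) :
    FinFr.locTrace (K := K) x L = LinearMap.trace Λ _ (via t s hs L 0) := by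
  have hb' : Function.Bijective (res (FinFr.extπ K (𝟙 _)) x t x' hx L 0) :=
    (bijective_resAdd_iff (FinFr.extπ K (𝟙 _)) x t x' hx L.carrier 0).2 hb
  let e := LinearEquiv.ofBijective (res (FinFr.extπ K (𝟙 _)) x t x' hx L 0) hb'
  have h : FinFr.locFrob (K := K) x L = e.conj (via t s hs L 0) := by
    refine LinearMap.ext fun z => ?_
    obtain ⟨y, rfl⟩ := e.surjective z
    rw [LinearEquiv.conj_apply_apply, LinearEquiv.symm_apply_apply]
    exact (res_via x L t s hs x' hx hsx 0 y).symm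
  rw [FinFr.locTrace, h, LinearMap.trace_conj']

end Fin

end Groth.Agent.Sga4h.H582.TrPt
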