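import Groth.Agent.Sga4h.H582.GlobConst
import Groth.Agent.Sga4h.H582.TrMain

/-!
# The trace function of a sheaf which becomes constant over `K`

`a : X₀ ⟶ Spec k`, `X = X₀ ×_k K` connected, `L` a sheaf of `Λ`-modules on `X₀` whose pull-back to `X` is constant of
rank one.  For every finite subextension `E` of `K/k` the trace of the geometric Frobenius is the same at all
points of `X₀` with values in `E` (over `k`).
-/

set_option autoImplicit false
universe u
open CategoryTheory CategoryTheory.Limits AlgebraicGeometry Opposite Abelian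
open scoped Groth.Agent.Etcore.EtInst
open Groth.Agent.Etcore.EtInst Groth.Agent.Etcore.PullCoh Groth.Agent.Etcore.HpullCalc

noncomputable section

namespace Groth.Agent.Sga4h.H582.TrConst

open Groth.Agent.Sga4h.H917 Groth.Agent.Sga4h.H582.TrPt

section Geom

variable {k : Type u} [Field k] {K : Type u} [Field K] [Algebra k K]
variable {X₀ X : Scheme.{u}} {a : X₀ ⟶ Spec (CommRingCat.of k)} {t : X ⟶ X₀}
  {p : X ⟶ Spec (CommRingCat.of K)} (hP : IsPullback t p a (FinFr.specι k K))

/-- The action of `σ` on `X = X₀ ×_k K`. -/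
def act (σ : K ≃ₐ[k] K) : X ⟶ X :=
  hP.lift t (p ≫ Spec.map (CommRingCat.ofHom (σ : K →+* K)))
    (by rw [Category.assoc, FinFr.specMap_algEquiv_comp_specι, hP.w])

theorem act_t (σ : K ≃ₐ[k] K) : act hP σ ≫ t = t := hP.lift_fst _ _ _

theorem act_p (σ : K ≃ₐ[k] K) :
    act hP σ ≫ p = p ≫ Spec.map (CommRingCat.ofHom (σ : K →+* K)) := hP.lift_snd _ _ _

variable (E : Type u) [Field E] [Algebra k E] [Algebra E K] [IsScalarTower k E K]

theorem specι_comp : FinFr.specι E K ≫ Spec.map (CommRingCat.ofHom (algebraMap k E)) =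
    FinFr.specι k K := by
  rw [FinFr.specι, FinFr.specι, ← Spec.map_comp, ← CommRingCat.ofHom_comp,
    ← IsScalarTower.algebraMap_eq]

/-- The lift of a point with values in `E`. -/
def liftPt (x : Spec (CommRingCat.of E) ⟶ X₀)
    (hx : x ≫ a = Spec.map (CommRingCat.ofHom (algebraMap k E))) :
    FinFr.ext K (𝟙 (Spec (CommRingCat.of E))) ⟶ X :=
  hP.lift (FinFr.extπ K (𝟙 _) ≫ x) (FinFr.extStr K (𝟙 _)) (by
    have h : FinFr.extπ K (𝟙 (Spec (CommRingCat.of E))) = FinFr.extStr K (𝟙 _) ≫ FinFr.specι E K := by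
      have := pullback.condition (f := 𝟙 (Spec (CommRingCat.of E))) (g := FinFr.specι E K)
      rw [Category.comp_id] at this
      exact this
    rw [Category.assoc, hx, h, Category.assoc, specι_comp])

theorem liftPt_t (x : Spec (CommRingCat.of E) ⟶ X₀)
    (hx : x ≫ a = Spec.map (CommRingCat.ofHom (algebraMap k E))) :
    liftPt hP E x hx ≫ t = FinFr.extπ K (𝟙 _) ≫ x := hP.lift_fst _ _ _

theorem liftPt_p (x : Spec (CommRingCat.of E) ⟶ X₀)
    (hx : x ≫ a = Spec.map (CommRingCat.ofHom (algebraMap k E))) :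
    liftPt hP E x hx ≫ p = FinFr.extStr K (𝟙 _) := hP.lift_snd _ _ _

theorem galAct_liftPt (x : Spec (CommRingCat.of E) ⟶ X₀)
    (hx : x ≫ a = Spec.map (CommRingCat.ofHom (algebraMap k E))) (σ : K ≃ₐ[E] K) :
    FinFr.galAct (𝟙 _) σ ≫ liftPt hP E x hx =
      liftPt hP E x hx ≫ act hP (σ.restrictScalars k) := by
  apply hP.hom_ext
  · rw [Category.assoc, Category.assoc, act_t, liftPt_t, ← Category.assoc, FinFr.galAct_fst]
  · rw [Category.assoc, Category.assoc, act_p, liftPt_p, FinFr.galAct_snd, ← Category.assoc,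
      liftPt_p]
    rfl

instance connectedSpace_ext (E : Type u) [Field E] (K : Type u) [Field K] [Algebra E K] :
    ConnectedSpace (FinFr.ext K (𝟙 (Spec (CommRingCat.of E)))) := by
  have h1 : IsIso (FinFr.extStr K (𝟙 (Spec (CommRingCat.of E)))) := inferInstance
  have h2 : Function.Surjective (inv (FinFr.extStr K (𝟙 (Spec (CommRingCat.of E))))) :=
    (inv (FinFr.extStr K (𝟙 (Spec (CommRingCat.of E))))).surjective
  exact h2.connectedSpace (inv (FinFr.extStr K (𝟙 (Spec (CommRingCat.of E))))).continuous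

end Geom

variable {k : Type u} [Field k] {K : Type u} [Field K] [Algebra k K] [Fact FinFr.PullExact.{u}]
  {Λ : Type} [Field Λ] {X₀ X : Scheme.{u}} {a : X₀ ⟶ Spec (CommRingCat.of k)} {t : X ⟶ X₀}
  {p : X ⟶ Spec (CommRingCat.of K)}

theorem locTrace_eq_via (hP : IsPullback t p a (FinFr.specι k K)) [ConnectedSpace X]
    (L : EtLam.Sheaf Λ X₀) (hL : Desc.IsConst (EtLam.pullback t L))
    (E : Type u) [Field E] [Fintype E] [Algebra k E] [Algebra E K] [IsScalarTower k E K]
    [Algebra.IsAlgebraic E K]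
    [PreservesFiniteLimits (EtCoh.pull (act hP ((FinFr.arith E K).symm.restrictScalars k)))]
    (x : Spec (CommRingCat.of E) ⟶ X₀)
    (hx : x ≫ a = Spec.map (CommRingCat.ofHom (algebraMap k E))) :
    FinFr.locTrace (K := K) x L = LinearMap.trace Λ _
      (via t (act hP ((FinFr.arith E K).symm.restrictScalars k)) (act_t hP _) L 0) := by
  have := FinFr.pullExact_out (liftPt hP E x hx)
  exact locTrace_eq x L t _ (act_t hP _) (liftPt hP E x hx) (liftPt_t hP E x hx)
    (galAct_liftPt hP E x hx _) (GlobConst.bijective_hp (liftPt hP E x hx) (EtLam.pullback t L) hL)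

/-- The trace function of a sheaf which is constant on `X₀ ×_k K` is constant on `E`-points. -/
theorem locTrace_const (hP : IsPullback t p a (FinFr.specι k K)) [ConnectedSpace X]
    (L : EtLam.Sheaf Λ X₀) (hL : Desc.IsConst (EtLam.pullback t L))
    (E : Type u) [Field E] [Fintype E] [Algebra k E] [Algebra E K] [IsScalarTower k E K]
    [Algebra.IsAlgebraic E K] (x y : Spec (CommRingCat.of E) ⟶ X₀)
    (hx : x ≫ a = Spec.map (CommRingCat.ofHom (algebraMap k E)))
    (hy : y ≫ a = Spec.map (CommRingCat.ofHom (algebraMap k E))) :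
    FinFr.locTrace (K := K) x L = FinFr.locTrace (K := K) y L := by
  have := FinFr.pullExact_out (act hP ((FinFr.arith E K).symm.restrictScalars k))
  rw [locTrace_eq_via hP L hL E x hx, locTrace_eq_via hP L hL E y hy]

end Groth.Agent.Sga4h.H582.TrConst
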