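import Groth.Agent.Sga4h.H582.TrPt

/-!
# Linear form of the restriction maps (slow file)
-/

set_option autoImplicit false
universe u
open CategoryTheory CategoryTheory.Limits AlgebraicGeometry Opposite Abelian
open scoped Groth.Agent.Etcore.EtInst
open Groth.Agent.Etcore.EtInst Groth.Agent.Etcore.PullCoh Groth.Agent.Etcore.HpullCalc

noncomputable section

namespace Groth.Agent.Sga4h.H582.TrPt

section Lin

variable {Λ : Type} [CommRing Λ]

/-- The `Λ`-linear endomorphism of `H^n(X, t⁻¹L)` induced by `s : X ⟶ X` with `s ≫ t = t`. -/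
def via {X Z : Scheme.{u}} (t : X ⟶ Z) (s : X ⟶ X) (hs : s ≫ t = t)
    [PreservesFiniteLimits (EtCoh.pull s)] (L : EtLam.Sheaf Λ Z) (n : ℕ) :
    EtCoh.H X (EtLam.pullback t L).carrier n →ₗ[Λ] EtCoh.H X (EtLam.pullback t L).carrier n where
  toFun := EtCore.HpullVia s t t hs L.carrier n
  map_add' y z := map_add _ y z
  map_smul' r y := EtCore.HpullVia_natural s t t hs (L.act r) n y

/-- The `Λ`-linear restriction map. -/
def res {W X Y Z : Scheme.{u}} (w : W ⟶ Y) (x : Y ⟶ Z) (t : X ⟶ Z) (x' : W ⟶ X)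
    (hx : x' ≫ t = w ≫ x) [PreservesFiniteLimits (EtCoh.pull x')] (L : EtLam.Sheaf Λ Z) (n : ℕ) :
    EtCoh.H X (EtLam.pullback t L).carrier n →ₗ[Λ]
      EtCoh.H W (EtLam.pullback w (EtLam.pullback x L)).carrier n where
  toFun := resAdd w x t x' hx L.carrier n
  map_add' y z := map_add (resAdd w x t x' hx L.carrier n) y z
  map_smul' r y := resAdd_natural w x t x' hx L.carrier n (L.act r) y

end Lin

end Groth.Agent.Sga4h.H582.TrPt
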