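import Groth.Prelude.Def_LangSh
import Groth.Agent.Etcore.HpullComp
import Groth.Agent.Etcore.HpullViaEq

/-!
# The local trace of Frobenius as a trace on a space of global sections

`x : Spec k ⟶ X₀`, `t : X ⟶ X₀`, `s : X ⟶ X` over `X₀`, `x' : Spec k ×_k K ⟶ X` a lift of `x` compatible with
`s` and the arithmetic Frobenius (inverse).  If pull-back along `x'` is bijective on `H⁰(X, t⁻¹L)` then
`locTrace x L` is the trace of the action of `s` on `H⁰(X, t⁻¹L)` (`locTrace_eq`).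
-/

set_option autoImplicit false
universe u
open CategoryTheory CategoryTheory.Limits AlgebraicGeometry Opposite Abelian
open scoped Groth.Agent.Etcore.EtInst
open Groth.Agent.Etcore.EtInst Groth.Agent.Etcore.PullCoh Groth.Agent.Etcore.HpullCalc

noncomputable section

namespace Groth.Agent.Sga4h.H582.TrPt

/-- `hpVia` and the isomorphisms `t⁻¹ x⁻¹ ≅ (t ≫ x)⁻¹`. -/
theorem hpVia_th {W X Y Z : Scheme.{u}} (g : W ⟶ X) (t : X ⟶ Y) (gt : W ⟶ Y) (x : Y ⟶ Z)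
    (tx : X ⟶ Z) (gtx : W ⟶ Z) (w₁ : g ≫ t = gt) (w₂ : t ≫ x = tx) (w₃ : g ≫ tx = gtx)
    (w₄ : gt ≫ x = gtx) [PreservesFiniteLimits (EtCoh.pull g)] (G : EtCoh.Ab Z) (p : ℕ)
    (y : HH X ((EtCoh.pull t).obj ((EtCoh.pull x).obj G)) p) :
    HHmap (th gt x gtx w₄ G) p (hpVia g t gt w₁ ((EtCoh.pull x).obj G) p y) =
      hpVia g tx gtx w₃ G p (HHmap (th t x tx w₂ G) p y) := by
  rw [hpVia_apply_th, hpVia_apply_th, hp_map, ← HHmap_comp, ← HHmap_comp,
    th_assoc g t x gt tx gtx w₁ w₂ w₃ w₄]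

section Res

variable {W X Y Z : Scheme.{u}} (w : W ⟶ Y) (x : Y ⟶ Z) (t : X ⟶ Z) (x' : W ⟶ X)
  (hx : x' ≫ t = w ≫ x) [PreservesFiniteLimits (EtCoh.pull x')] (G : EtCoh.Ab Z) (n : ℕ)

/-- Restriction `H^n(X, t⁻¹G) ⟶ H^n(W, w⁻¹x⁻¹G)` along `x' : W ⟶ X` with `x' ≫ t = w ≫ x`. -/
def resAdd : HH X ((EtCoh.pull t).obj G) n →+ HH W ((EtCoh.pull w).obj ((EtCoh.pull x).obj G)) n :=
  (HHmap (inv (th w x (w ≫ x) rfl G)) n).comp (hpVia x' t (w ≫ x) hx G n)

theorem resAdd_apply (y : HH X ((EtCoh.pull t).obj G) n) :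
    resAdd w x t x' hx G n y =
      HHmap (inv (th w x (w ≫ x) rfl G)) n (hpVia x' t (w ≫ x) hx G n y) := by
  rw [resAdd, AddMonoidHom.comp_apply]

theorem map_resAdd (y : HH X ((EtCoh.pull t).obj G) n) :
    HHmap (th w x (w ≫ x) rfl G) n (resAdd w x t x' hx G n y) = hpVia x' t (w ≫ x) hx G n y := by
  rw [resAdd_apply, ← HHmap_comp, IsIso.inv_hom_id, HHmap_id]

theorem resAdd_natural {G' : EtCoh.Ab Z} (φ : G ⟶ G') (y : HH X ((EtCoh.pull t).obj G) n) :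
    resAdd w x t x' hx G' n (HHmap ((EtCoh.pull t).map φ) n y) =
      HHmap ((EtCoh.pull w).map ((EtCoh.pull x).map φ)) n (resAdd w x t x' hx G n y) := by
  apply (HHmap_bijective (th w x (w ≫ x) rfl G') n).1
  rw [map_resAdd, ← HHmap_comp, th_nat, HHmap_comp, map_resAdd, hpVia_map]

/-- Compatibility with actions `s` on `X`, `g` on `W`. -/
theorem resAdd_hpVia (s : X ⟶ X) (hs : s ≫ t = t) (g : W ⟶ W) (hg : g ≫ w = w)
    (hgs : g ≫ x' = x' ≫ s) [PreservesFiniteLimits (EtCoh.pull s)]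
    [PreservesFiniteLimits (EtCoh.pull g)] [PreservesFiniteLimits (EtCoh.pull (g ≫ x'))]
    (y : HH X ((EtCoh.pull t).obj G) n) :
    resAdd w x t x' hx G n (hpVia s t t hs G n y) =
      hpVia g w w hg ((EtCoh.pull x).obj G) n (resAdd w x t x' hx G n y) := by
  have e1 : g ≫ w ≫ x = w ≫ x := by rw [← Category.assoc, hg]
  have e2 : (g ≫ x') ≫ t = w ≫ x := by rw [Category.assoc, hx, e1]
  apply (HHmap_bijective (th w x (w ≫ x) rfl G) n).1
  rw [map_resAdd, hpVia_th g w w x (w ≫ x) (w ≫ x) hg rfl e1 rfl G n, map_resAdd,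
    hpVia_hpVia x' s t (g ≫ x') t (w ≫ x) hgs.symm hs hx e2,
    hpVia_hpVia g x' t (g ≫ x') (w ≫ x) (w ≫ x) rfl hx e1 e2]

theorem bijective_resAdd_iff : Function.Bijective (resAdd w x t x' hx G n) ↔
    Function.Bijective (hp x' ((EtCoh.pull t).obj G) n) := by
  rw [← bijective_hpVia_iff x' t (w ≫ x) hx G n]
  have h : ⇑(resAdd w x t x' hx G n) =
      ⇑(HHmap (inv (th w x (w ≫ x) rfl G)) n) ∘ ⇑(hpVia x' t (w ≫ x) hx G n) :=
    funext fun y => resAdd_apply w x t x' hx G n y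
  rw [h]
  exact Function.Bijective.of_comp_iff' (HHmap_bijective (inv (th w x (w ≫ x) rfl G)) n) _

end Res

end Groth.Agent.Sga4h.H582.TrPt
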